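import Mathlib

/-!
Finite `2`-groups in which all solutions of `x ^ 4 = 1` are central.

* two elements with the same square differ by an element of order at most two;
* an elementary abelian quotient has order at most the number of solutions of `x ^ 2 = 1`;
* when that bound is attained, the kernel consists of squares.
-/

set_option autoImplicit false

namespace Cfsg.Agent.Lib.FourGenerator

universe u

/-- All solutions of `x ^ 4 = 1` are central. -/
def CenFour (G : Type*) [Group G] : Prop := ∀ x y : G, x ^ 4 = 1 → x * y = y * x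

theorem CenFour.subgroup {G : Type*} [Group G] (h : CenFour G) (H : Subgroup G) : CenFour H :=
  fun x y hx => Subtype.ext (h x y (by simpa using congrArg Subtype.val hx))

theorem CenFour.of_sq {G : Type*} [Group G] (h : CenFour G) {x : G} (hx : x ^ 2 = 1) (y : G) :
    x * y = y * x :=
  h x y (by rw [show (4 : ℕ) = 2 * 2 by rfl, pow_mul, hx, one_pow])

theorem sq_inv_mul_eq_one {G : Type u} [Group G] [Finite G] (hG : IsPGroup 2 G) (hc : CenFour G)
    {x y : G} (h : x ^ 2 = y ^ 2) : (x⁻¹ * y) ^ 2 = 1 := by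
  suffices key : ∀ (n : ℕ) (G : Type u) [Group G] [Finite G], Nat.card G = n → IsPGroup 2 G →
      CenFour G → ∀ x y : G, x ^ 2 = y ^ 2 → (x⁻¹ * y) ^ 2 = 1 from key _ G rfl hG hc x y h
  clear h x y hc hG
  intro n
  induction n using Nat.strong_induction_on with
  | _ n ih =>
    intro G _ _ hn hG hc x y h
    -- the statement inside a proper subgroup
    have hsub : ∀ (K : Subgroup G), K ≠ ⊤ → ∀ a ∈ K, ∀ b ∈ K, a ^ 2 = b ^ 2 →
        (a⁻¹ * b) ^ 2 = 1 := by
      intro K hK a ha b hb hab
      have hlt : Nat.card K < n := by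
        rcases lt_or_ge (Nat.card K) n with h1 | h1
        · exact h1
        · exact absurd (Subgroup.eq_top_of_le_card K (hn ▸ h1)) hK
      have := ih _ hlt K rfl (hG.to_subgroup K) (hc.subgroup K) ⟨a, ha⟩ ⟨b, hb⟩
        (Subtype.ext (by simpa using hab))
      simpa using congrArg Subtype.val this
    by_cases hx : Subgroup.zpowers x = ⊤
    · have hcomm : Commute x⁻¹ y := by
        obtain ⟨k, rfl⟩ := Subgroup.mem_zpowers_iff.1 (hx ▸ Subgroup.mem_top y)
        exact ((Commute.refl x).zpow_right k).inv_left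
      rw [hcomm.mul_pow, inv_pow, h, inv_mul_cancel]
    · obtain ⟨M, hM, hxM⟩ := (eq_top_or_exists_le_coatom (Subgroup.zpowers x)).resolve_left hx
      haveI : Group.IsNilpotent G := hG.isNilpotent
      haveI hMn : M.Normal := Subgroup.NormalizerCondition.normal_of_coatom _
        Group.normalizerCondition_of_isNilpotent hM
      have hxm : x ∈ M := hxM (Subgroup.mem_zpowers x)
      have hxm' : y⁻¹ * x * y ∈ M := hMn.conj_mem' x hxm y
      have hsq : x ^ 2 = (y⁻¹ * x * y) ^ 2 := by
        calc x ^ 2 = y⁻¹ * y ^ 2 * y := by rw [h]; group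
          _ = y⁻¹ * x ^ 2 * y := by rw [h]
          _ = (y⁻¹ * x * y) ^ 2 := by rw [pow_two, pow_two]; group
      set c := x⁻¹ * (y⁻¹ * x * y) with hcdef
      have hc2 : c ^ 2 = 1 := hsub M hM.1 x hxm _ hxm' hsq
      have hyx : y * x⁻¹ = x⁻¹ * y * c := by
        calc y * x⁻¹ = x⁻¹ * y * (y⁻¹ * x * y) * x⁻¹ := by group
          _ = x⁻¹ * y * (x * c) * x⁻¹ := by rw [hcdef]; group
          _ = x⁻¹ * y * (c * x) * x⁻¹ := by rw [hc.of_sq hc2 x]
          _ = x⁻¹ * y * c := by group
      have hsq2 : (x⁻¹ * y) ^ 2 = c := by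
        calc (x⁻¹ * y) ^ 2 = x⁻¹ * (y * x⁻¹) * y := by rw [pow_two]; group
          _ = x⁻¹ * x⁻¹ * y * (c * y) := by rw [hyx]; group
          _ = x⁻¹ * x⁻¹ * y * (y * c) := by rw [hc.of_sq hc2 y]
          _ = (x ^ 2)⁻¹ * y ^ 2 * c := by rw [pow_two, pow_two]; group
          _ = c := by rw [h, inv_mul_cancel, one_mul]
      have h4 : (x⁻¹ * y) ^ 4 = 1 := by
        rw [show (4 : ℕ) = 2 * 2 by rfl, pow_mul, hsq2, hc2]
      have hcm : Commute (x⁻¹ * y) x := hc _ x h4
      have hcomm : Commute x⁻¹ y := by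
        have h1 : Commute x⁻¹ (x⁻¹ * y) := hcm.symm.inv_left
        have h2 := (Commute.refl x).inv_left.mul_right h1
        simpa using h2
      rw [hcomm.mul_pow, inv_pow, h, inv_mul_cancel]

/-- The subgroup of solutions of `x ^ 2 = 1`. -/
def omega {G : Type*} [Group G] (hc : CenFour G) : Subgroup G where
  carrier := {x | x ^ 2 = 1}
  one_mem' := one_pow 2
  mul_mem' {a b} ha hb := by
    show (a * b) ^ 2 = 1
    rw [(show Commute a b from hc.of_sq ha b).mul_pow, ha, hb, one_mul]
  inv_mem' {a} ha := by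
    show a⁻¹ ^ 2 = 1
    rw [inv_pow, ha, inv_one]

@[simp] theorem mem_omega {G : Type*} [Group G] {hc : CenFour G} {x : G} :
    x ∈ omega hc ↔ x ^ 2 = 1 := Iff.rfl

theorem omega_normal {G : Type*} [Group G] (hc : CenFour G) : (omega hc).Normal := by
  refine ⟨fun x hx g => ?_⟩
  rw [show g * x * g⁻¹ = x by rw [← hc.of_sq hx g]; group]
  exact hx

/-- Passing to the quotient by the solutions of `x ^ 2 = 1`. -/
theorem cenFour_quotient {G : Type u} [Group G] [Finite G] (hG : IsPGroup 2 G) (hc : CenFour G)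
    [(omega hc).Normal] : CenFour (G ⧸ omega hc) := by
  intro a b ha
  induction a using QuotientGroup.induction_on with
  | _ x =>
  induction b using QuotientGroup.induction_on with
  | _ y =>
  rw [← QuotientGroup.mk_pow, QuotientGroup.eq_one_iff, mem_omega] at ha
  have h2 : (x ^ 2) ^ 4 = 1 := by rw [← ha, ← pow_mul, ← pow_mul]
  have hsq : x ^ 2 = (y⁻¹ * x * y) ^ 2 := by
    calc x ^ 2 = y⁻¹ * (y * x ^ 2) := by group
      _ = y⁻¹ * (x ^ 2 * y) := by rw [hc _ y h2]
      _ = (y⁻¹ * x * y) ^ 2 := by rw [pow_two, pow_two]; group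
  have hm := sq_inv_mul_eq_one hG hc hsq
  rw [← QuotientGroup.mk_mul, ← QuotientGroup.mk_mul, QuotientGroup.eq]
  have hx' : (y * x)⁻¹ * (x * y) = x⁻¹ * (y⁻¹ * x * y) := by group
  have := (omega hc).inv_mem (show (y * x)⁻¹ * (x * y) ∈ omega hc by rw [hx']; exact hm)
  simpa [mul_assoc] using this

/-- A normal subgroup containing all squares has index at most the number of solutions of
`x ^ 2 = 1`, and if equality holds all its elements are squares. -/
theorem index_le_and_sq {G : Type u} [Group G] [Finite G] (hG : IsPGroup 2 G) (hc : CenFour G)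
    (N : Subgroup G) (hN : ∀ x : G, x ^ 2 ∈ N) :
    N.index ≤ Nat.card (omega hc) ∧
      (Nat.card (omega hc) ≤ N.index → ∀ n ∈ N, ∃ w : G, n = w ^ 2) := by
  suffices key : ∀ (k : ℕ) (G : Type u) [Group G] [Finite G], Nat.card G = k → IsPGroup 2 G →
      ∀ (hc : CenFour G) (N : Subgroup G), (∀ x : G, x ^ 2 ∈ N) →
      N.index ≤ Nat.card (omega hc) ∧
        (Nat.card (omega hc) ≤ N.index → ∀ n ∈ N, ∃ w : G, n = w ^ 2) from
    key _ G rfl hG hc N hN
  clear hN N hc hG
  intro k
  induction k using Nat.strong_induction_on with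
  | _ k ih =>
    intro G _ _ hk hG hc N hN
    haveI hNn : N.Normal := ⟨fun x hx g => by
      rw [show g * x * g⁻¹ = g ^ 2 * (g⁻¹ * x) ^ 2 * x⁻¹ by rw [pow_two, pow_two]; group]
      exact N.mul_mem (N.mul_mem (hN g) (hN _)) (N.inv_mem hx)⟩
    set V := omega hc with hV
    haveI hVn : V.Normal := omega_normal hc
    by_cases hV1 : V = ⊥
    · -- no involutions: the group is trivial
      have htriv : ∀ x : G, x = 1 := by
        intro x
        obtain ⟨j, hj⟩ := hG x
        induction j generalizing x with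
        | zero => simpa using hj
        | succ j ihj =>
          have h2 : x ^ 2 = 1 := ihj _ (by rw [← pow_mul, ← pow_succ']; exact hj)
          have : x ∈ V := h2
          rwa [hV1, Subgroup.mem_bot] at this
      haveI : Subsingleton G := ⟨fun a b => by rw [htriv a, htriv b]⟩
      refine ⟨?_, fun _ n _ => ⟨1, by rw [htriv n, one_pow]⟩⟩
      rw [show N = ⊤ from Subsingleton.elim _ _, Subgroup.index_top]
      exact Nat.card_pos
    -- the quotient by the involutions
    set π := QuotientGroup.mk' V with hπ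
    have hsurj : Function.Surjective π := QuotientGroup.mk'_surjective V
    have hlt : Nat.card (G ⧸ V) < k := by
      have hmul := Subgroup.card_eq_card_quotient_mul_card_subgroup V
      have hpos : 0 < Nat.card (G ⧸ V) := Nat.card_pos
      have h2 : 1 < Nat.card V := (Subgroup.one_lt_card_iff_ne_bot V).2 hV1
      have h3 := Nat.mul_le_mul_left (Nat.card (G ⧸ V)) h2
      omega
    have hc' : CenFour (G ⧸ V) := cenFour_quotient hG hc
    have hN' : ∀ a : G ⧸ V, a ^ 2 ∈ N.map π := by
      intro a
      obtain ⟨x, rfl⟩ := hsurj a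
      exact ⟨x ^ 2, hN x, map_pow π x 2⟩
    obtain ⟨hle, hsq⟩ := ih _ hlt (G ⧸ V) rfl (hG.to_quotient V) hc' (N.map π) hN'
    -- the solutions of `x ^ 4 = 1` map onto the involutions of the quotient, with squares in `N ∩ V`
    set U : Subgroup G := (omega hc').comap π with hU
    have hU4 : ∀ x ∈ U, x ^ 4 = 1 := by
      intro x hx
      rw [hU, Subgroup.mem_comap, mem_omega, ← map_pow, hπ, QuotientGroup.mk'_apply,
        QuotientGroup.eq_one_iff, hV, mem_omega] at hx
      rwa [← pow_mul] at hx
    let sq : U →* G :=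
      MonoidHom.mk' (fun x => (x : G) ^ 2) (fun a b => by
        simp only [Subgroup.coe_mul]
        exact (show Commute (a : G) b from hc _ _ (hU4 _ a.2)).mul_pow 2)
    have hker : sq.ker = V.subgroupOf U := by
      ext x
      rw [MonoidHom.mem_ker, Subgroup.mem_subgroupOf, hV, mem_omega]
      rfl
    have hVU : V ≤ U := fun x hx => by
      rw [hU, Subgroup.mem_comap, mem_omega, ← map_pow, hπ, QuotientGroup.mk'_apply,
        QuotientGroup.eq_one_iff, hV, mem_omega, show x ^ 2 = 1 from hx, one_pow]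
    have hrange : sq.range ≤ N ⊓ V := by
      rintro _ ⟨x, rfl⟩
      refine ⟨hN _, ?_⟩
      show ((x : G) ^ 2) ^ 2 = 1
      rw [← pow_mul]; exact hU4 _ x.2
    have hcard : Nat.card (omega hc') = Nat.card sq.range := by
      rw [← Subgroup.index_ker sq, hker]
      have h1 : (V.subgroupOf U).index = V.relIndex U := rfl
      rw [h1]
      have h2 := Subgroup.relIndex_ker (omega hc' |>.comap π) π
      rw [Subgroup.map_comap_eq_self_of_surjective hsurj, hπ, QuotientGroup.ker_mk'] at h2
      exact h2.symm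
    -- counting
    have hidx : N.index = (N.map π).index * N.relIndex V := by
      rw [Subgroup.index_map, MonoidHom.range_eq_top.2 hsurj, Subgroup.index_top, mul_one, hπ,
        QuotientGroup.ker_mk', ← Subgroup.relIndex_sup_right, mul_comm]
      rw [sup_comm V N]
      exact (Subgroup.relIndex_mul_index le_sup_left).symm
    have hVcard : Nat.card (N ⊓ V : Subgroup G) * N.relIndex V = Nat.card V := by
      rw [← Subgroup.inf_relIndex_right, ← Subgroup.relIndex_bot_left, ← Subgroup.relIndex_bot_left]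
      exact Subgroup.relIndex_mul_relIndex ⊥ (N ⊓ V) V bot_le inf_le_right
    have hrle : Nat.card sq.range ≤ Nat.card (N ⊓ V : Subgroup G) := Subgroup.card_le_of_le hrange
    have hrpos : 0 < N.relIndex V := Nat.pos_of_ne_zero (Subgroup.index_ne_zero_of_finite)
    refine ⟨?_, fun heq n hn => ?_⟩
    · rw [hidx, ← hVcard]
      exact Nat.mul_le_mul_right _ (hle.trans (hcard ▸ hrle))
    · rw [hidx, ← hVcard] at heq
      have h1 : Nat.card (N ⊓ V : Subgroup G) ≤ (N.map π).index :=
        Nat.le_of_mul_le_mul_right heq hrpos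
      have h2 : Nat.card (omega hc') ≤ (N.map π).index := by
        rw [hcard]; exact hrle.trans h1
      have h3 : sq.range = N ⊓ V :=
        Subgroup.eq_of_le_of_card_ge hrange (h1.trans (hcard ▸ hle))
      obtain ⟨a, ha⟩ := hsq h2 (π n) ⟨n, hn, rfl⟩
      obtain ⟨w, rfl⟩ := hsurj a
      have hv : (w ^ 2)⁻¹ * n ∈ N ⊓ V := by
        refine ⟨N.mul_mem (N.inv_mem (hN w)) hn, ?_⟩
        show (w ^ 2)⁻¹ * n ∈ V
        rw [← map_pow, hπ, QuotientGroup.mk'_apply, QuotientGroup.mk'_apply] at ha
        exact QuotientGroup.eq.1 ha.symm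
      rw [← h3] at hv
      obtain ⟨v, hv⟩ := hv
      refine ⟨w * v, ?_⟩
      rw [(show Commute (v : G) w from hc _ w (hU4 _ v.2)).symm.mul_pow,
        show (v : G) ^ 2 = (w ^ 2)⁻¹ * n from hv, mul_inv_cancel_left]

end Cfsg.Agent.Lib.FourGenerator
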