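import Mathlib

/-!
The sixteen endomorphisms of a Klein four group, recorded by the images of a basis, and the
conjugation by the transvection fixing the first basis vector.
-/

set_option autoImplicit false

namespace Cfsg.Agent.Lib.FourGenerator

/-- The plane over the field with two elements. -/
abbrev Plane : Type := ZMod 2 × ZMod 2

/-- Endomorphisms of the plane, by the images of the basis. -/
abbrev End4 : Type := Plane × Plane

/-- Application of an endomorphism. -/
def app (m : End4) (v : Plane) : Plane :=
  (v.1 * m.1.1 + v.2 * m.2.1, v.1 * m.1.2 + v.2 * m.2.2)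

/-- The transvection fixing `(1, 0)`. -/
def shear (v : Plane) : Plane := (v.1 + v.2, v.2)

/-- Conjugation by the transvection. -/
def conjShear (m : End4) : End4 := (shear m.1, shear (m.1 + m.2))

/-- `1 + m` is injective. -/
def OneAddInj (m : End4) : Prop := ∀ v : Plane, v + app m v = 0 → v = 0

/-- `m` is injective. -/
def Inj4 (m : End4) : Prop := ∀ v : Plane, app m v = 0 → v = 0

/-- Non-zero with `1 + m` invertible. -/
def Good (m : End4) : Prop := m ≠ 0 ∧ OneAddInj m

instance : DecidablePred Good := fun m => by unfold Good OneAddInj; infer_instance
instance : DecidablePred Inj4 := fun m => by unfold Inj4; infer_instance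

def nilU : End4 := ((0, 0), (1, 0))
def nilL : End4 := ((0, 1), (0, 0))
def nilJ : End4 := ((1, 1), (1, 1))
def rotA : End4 := ((0, 1), (1, 1))
def rotB : End4 := ((1, 1), (1, 0))
def transU : End4 := ((1, 0), (1, 1))
def idem : End4 := ((1, 0), (0, 0))

theorem good_nilU : Good nilU := by decide
theorem good_nilL : Good nilL := by decide
theorem good_nilJ : Good nilJ := by decide
theorem good_rotA : Good rotA := by decide
theorem good_rotB : Good rotB := by decide
theorem inj_rotA : Inj4 rotA := by decide
theorem inj_rotB : Inj4 rotB := by decide
theorem inj_transU : Inj4 transU := by decide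
theorem conjShear_nilU : conjShear nilU = nilU := by decide
theorem rot_add_trans : rotA + rotB + transU = nilU := by decide
theorem rot_eq_nil : rotA + rotB = nilU + nilL + nilJ := by decide
theorem idem_add : idem + conjShear idem = nilU := by decide
theorem conjShear_invol (m : End4) : conjShear (conjShear m) = m := by revert m; decide

theorem card_fixed : (Finset.univ.filter fun m : End4 => conjShear m = m).card = 4 := by decide

theorem card_end4 : Nat.card End4 = 16 := by
  rw [Nat.card_eq_fintype_card]; rfl

theorem exists_add_app {m : End4} (hm : OneAddInj m) (s : Plane) : ∃ v : Plane, v + app m v = s := by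
  have hinj : Function.Injective fun v : Plane => v + app m v := by
    intro v w h
    have hlin : (v + w) + app m (v + w) = (v + app m v) + (w + app m w) := by
      simp only [app, Prod.fst_add, Prod.snd_add]
      ext <;> simp <;> ring
    have h0 : v + w = 0 := hm _ (by
      rw [hlin, show v + app m v = w + app m w from h]
      ext <;> simp [CharTwo.add_self_eq_zero])
    calc v = v + w + w := by
          rw [add_assoc]; ext <;> simp [CharTwo.add_self_eq_zero]
      _ = w := by rw [h0, zero_add]
  exact (Finite.injective_iff_surjective.1 hinj) s

/-- A subgroup of index two of the endomorphisms contains a good element. -/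
theorem exists_good_of_index_two {W : AddSubgroup End4} (hW : W.index = 2) :
    ∃ m ∈ W, Good m := by
  by_contra hc
  push Not at hc
  have hA : rotA ∉ W := fun h => hc _ h good_rotA
  have hB : rotB ∉ W := fun h => hc _ h good_rotB
  have hU : nilU ∉ W := fun h => hc _ h good_nilU
  have hL : nilL ∉ W := fun h => hc _ h good_nilL
  have hJ : nilJ ∉ W := fun h => hc _ h good_nilJ
  have h1 : rotA + rotB ∈ W := (AddSubgroup.add_mem_iff_of_index_two hW).2 (by simp [hA, hB])
  have h2 : nilU + nilL ∈ W := (AddSubgroup.add_mem_iff_of_index_two hW).2 (by simp [hU, hL])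
  rw [rot_eq_nil] at h1
  exact hJ ((AddSubgroup.add_mem_cancel_left W h2).1 h1)

/-- A stable subgroup of index two contains the fixed nilpotent. -/
theorem nilU_mem_of_index_two {W : AddSubgroup End4} (hW : W.index = 2)
    (hst : ∀ m ∈ W, conjShear m ∈ W) : nilU ∈ W := by
  rw [← idem_add]
  refine (AddSubgroup.add_mem_iff_of_index_two hW).2 ⟨hst _, fun h => ?_⟩
  have := hst _ h
  rwa [conjShear_invol] at this

/-- A subgroup of at least four fixed elements contains the fixed nilpotent. -/
theorem nilU_mem_of_fixed {W : Set End4} (hW : 4 ≤ Nat.card W)
    (hfix : ∀ m ∈ W, conjShear m = m) : nilU ∈ W := by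
  classical
  have hsub : W.toFinset ⊆ Finset.univ.filter fun m : End4 => conjShear m = m := by
    intro m hm
    simp [hfix m (by simpa using hm)]
  have hc : W.toFinset.card = Nat.card W := by simp [Nat.card_eq_fintype_card]
  have heq := Finset.eq_of_subset_of_card_le hsub (by rw [card_fixed, hc]; exact hW)
  have : nilU ∈ W.toFinset := by rw [heq]; simp [conjShear_nilU]
  simpa using this

theorem card_le_four_of_fixed {W : Set End4} (hfix : ∀ m ∈ W, conjShear m = m) :
    Nat.card W ≤ 4 := by
  classical
  have hsub : W.toFinset ⊆ Finset.univ.filter fun m : End4 => conjShear m = m := by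
    intro m hm
    simp [hfix m (by simpa using hm)]
  have := Finset.card_le_card hsub
  rw [card_fixed] at this
  simpa [Nat.card_eq_fintype_card] using this

end Cfsg.Agent.Lib.FourGenerator
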