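import Mathlib
import Cfsg.Agent.Lib.FourGenerator.Central
import Cfsg.Agent.Lib.PLemmas.AlperinExponent

/-!
The set-up for MacWilliams' four generator theorem: a maximal normal abelian subgroup `A` of
exponent dividing four in a `2`-group with no normal elementary abelian subgroup of order eight,
its centraliser `C`, its involution group `V`, and the displacement `a⁻¹ (g⁻¹ a g)`.
-/

set_option autoImplicit false

namespace Cfsg.Agent.Lib.FourGenerator

open Subgroup

universe u

/-- The data of the set-up. -/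
structure Setting {P : Type u} [Group P] (A : Subgroup P) : Prop where
  pg : IsPGroup 2 P
  normal : A.Normal
  comm : ∀ a ∈ A, ∀ b ∈ A, a * b = b * a
  exp : ∀ a ∈ A, a ^ 4 = 1
  mem_of : ∀ x ∈ centralizer (A : Set P), x ^ 4 = 1 → x ∈ A
  small : ∀ E : Subgroup P, E.Normal → IsMulCommutative E → (∀ a ∈ E, a ^ 2 = 1) → Nat.card E ≤ 4

theorem exists_setting {P : Type u} [Group P] [Finite P] (hP : IsPGroup 2 P)
    (h : ∀ A : Subgroup P, A.Normal → IsMulCommutative A → (∀ a ∈ A, a ^ 2 = 1) → Nat.card A ≤ 4) :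
    ∃ A : Subgroup P, Setting A := by
  haveI : Fact (Nat.Prime 2) := ⟨Nat.prime_two⟩
  let S : Set (Subgroup P) :=
    {B | B.Normal ∧ IsMulCommutative B ∧ ∀ b ∈ B, b ^ 2 ^ 2 = 1}
  have hne : S.Nonempty := ⟨⊥, inferInstance, inferInstance, fun b hb => by
    rw [mem_bot.1 hb, one_pow]⟩
  obtain ⟨A, hAmax⟩ := (Set.toFinite S).exists_maximal hne
  obtain ⟨hn, hc, he⟩ := hAmax.prop
  haveI := hn
  haveI := hc
  refine ⟨A, hP, hn, fun a ha b hb => ?_, he, fun x hx hx4 => ?_, h⟩
  · exact congrArg Subtype.val (hc.is_comm.comm ⟨a, ha⟩ ⟨b, hb⟩)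
  · exact Cfsg.Agent.Lib.PLemmas.mem_of_maximal_normal_abelian_exponent hP 2 (by norm_num) A he
      (fun B hBn hBc hBe hle => le_antisymm (hAmax.le_of_ge ⟨hBn, hBc, hBe⟩ hle) hle) x hx hx4

/-- The displacement of `a` by `g`. -/
def disp {P : Type*} [Group P] (g a : P) : P := a⁻¹ * (g⁻¹ * a * g)

variable {P : Type u} [Group P] [Finite P] {A : Subgroup P}

/-- The involutions of `A`, with the identity. -/
def invA (hA : Setting A) : Subgroup P where
  carrier := {a | a ∈ A ∧ a ^ 2 = 1}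
  one_mem' := ⟨one_mem A, one_pow 2⟩
  mul_mem' {a b} ha hb := ⟨mul_mem ha.1 hb.1, by
    rw [(show Commute a b from hA.comm a ha.1 b hb.1).mul_pow, ha.2, hb.2, one_mul]⟩
  inv_mem' {a} ha := ⟨inv_mem ha.1, by rw [inv_pow, ha.2, inv_one]⟩

theorem mem_invA (hA : Setting A) {a : P} : a ∈ invA hA ↔ a ∈ A ∧ a ^ 2 = 1 := Iff.rfl

theorem conj_mem_A (hA : Setting A) {a : P} (ha : a ∈ A) (g : P) : g⁻¹ * a * g ∈ A := by
  simpa using hA.normal.conj_mem a ha g⁻¹

theorem conj_sq (g a : P) : (g⁻¹ * a * g) ^ 2 = g⁻¹ * a ^ 2 * g := by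
  rw [pow_two, pow_two]; group

theorem invA_normal (hA : Setting A) : (invA hA).Normal := by
  refine ⟨fun a ha g => ⟨hA.normal.conj_mem a ha.1 g, ?_⟩⟩
  rw [show (g * a * g⁻¹) ^ 2 = g * a ^ 2 * g⁻¹ by rw [pow_two, pow_two]; group, ha.2]
  group

theorem invA_card_le (hA : Setting A) : Nat.card (invA hA) ≤ 4 :=
  hA.small _ (invA_normal hA) ⟨⟨fun a b => Subtype.ext (hA.comm _ a.2.1 _ b.2.1)⟩⟩ fun _ ha => ha.2

theorem sq_mem_invA (hA : Setting A) {a : P} (ha : a ∈ A) : a ^ 2 ∈ invA hA :=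
  ⟨pow_mem ha 2, by rw [← pow_mul]; exact hA.exp a ha⟩

/-- The centraliser of the involutions of `A`. -/
def centV (hA : Setting A) : Subgroup P := centralizer ((invA hA : Subgroup P) : Set P)

theorem centV_normal (hA : Setting A) : (centV hA).Normal := by
  haveI := invA_normal hA
  exact Subgroup.normal_centralizer

theorem mem_centV (hA : Setting A) {g : P} :
    g ∈ centV hA ↔ ∀ v ∈ invA hA, g⁻¹ * v * g = v := by
  rw [centV, mem_centralizer_iff]
  refine forall₂_congr fun v _ => ?_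
  rw [mul_assoc, inv_mul_eq_iff_eq_mul]

theorem cent_le_centV (hA : Setting A) : centralizer (A : Set P) ≤ centV hA :=
  centralizer_le fun _ ha => ha.1

theorem A_le_cent (hA : Setting A) : A ≤ centralizer (A : Set P) :=
  fun a ha => mem_centralizer_iff.2 fun b hb => hA.comm b hb a ha

theorem cenFour_cent (hA : Setting A) : CenFour (centralizer (A : Set P)) := by
  intro x y hx
  have h1 : (x : P) ∈ A := hA.mem_of _ x.2 (by simpa using congrArg Subtype.val hx)
  exact Subtype.ext (mem_centralizer_iff.1 y.2 _ h1)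

theorem mem_invA_of_cent (hA : Setting A) {c : P} (hc : c ∈ centralizer (A : Set P))
    (h : c ^ 2 = 1) : c ∈ invA hA :=
  ⟨hA.mem_of c hc (by rw [show (4 : ℕ) = 2 * 2 by rfl, pow_mul, h, one_pow]), h⟩

/-- An element of `C` of order more than two has a power of order four, in `A`. -/
theorem exists_pow_order_four (hA : Setting A) {c : P} (hc : c ∈ centralizer (A : Set P))
    (h : c ^ 2 ≠ 1) : ∃ k : ℕ, c ^ k ∈ A ∧ (c ^ k) ^ 2 ≠ 1 := by
  obtain ⟨j, hj⟩ := hA.pg c
  induction j generalizing c with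
  | zero =>
    rw [pow_zero, pow_one] at hj
    rw [hj, one_pow] at h
    exact absurd rfl h
  | succ j ih =>
    by_cases h2 : (c ^ 2) ^ 2 = 1
    · exact ⟨1, by simpa using hA.mem_of c hc (by rwa [← pow_mul] at h2), by simpa using h⟩
    · obtain ⟨k, hk1, hk2⟩ := ih (pow_mem hc 2) h2 (by rw [← pow_mul, ← pow_succ']; exact hj)
      exact ⟨2 * k, by rwa [pow_mul], by rwa [pow_mul c 2 k]⟩

/-! ### The displacement -/

theorem disp_mem (hA : Setting A) {g a : P} (hg : g ∈ centV hA) (ha : a ∈ A) :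
    disp g a ∈ invA hA := by
  refine ⟨mul_mem (inv_mem ha) (conj_mem_A hA ha g), ?_⟩
  rw [disp, (show Commute a⁻¹ (g⁻¹ * a * g) from
    hA.comm _ (inv_mem ha) _ (conj_mem_A hA ha g)).mul_pow, conj_sq,
    (mem_centV hA).1 hg _ (sq_mem_invA hA ha), inv_pow, inv_mul_cancel]

theorem disp_mul_left (hA : Setting A) {g h a : P} (hg : g ∈ centV hA) (hh : h ∈ centV hA)
    (ha : a ∈ A) : disp (g * h) a = disp g a * disp h a := by
  have h1 := (mem_centV hA).1 hh _ (disp_mem hA hg ha)
  have h2 := hA.comm _ (disp_mem hA hg ha).1 _ (disp_mem hA hh ha).1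
  rw [h2]
  conv_rhs => rw [← h1]
  simp only [disp]
  group

theorem disp_mul_right (hA : Setting A) {g a b : P} (hg : g ∈ centV hA) (ha : a ∈ A) (hb : b ∈ A) :
    disp g (a * b) = disp g a * disp g b := by
  have h2 := hA.comm b⁻¹ (inv_mem hb) _ (disp_mem hA hg ha).1
  calc disp g (a * b) = (b⁻¹ * disp g a) * (g⁻¹ * b * g) := by simp only [disp]; group
    _ = (disp g a * b⁻¹) * (g⁻¹ * b * g) := by rw [h2]
    _ = disp g a * disp g b := by simp only [disp]; group

theorem disp_invA (hA : Setting A) {g v : P} (hg : g ∈ centV hA) (hv : v ∈ invA hA) :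
    disp g v = 1 := by
  rw [disp, (mem_centV hA).1 hg v hv, inv_mul_cancel]

theorem disp_eq_one_iff {g a : P} : disp g a = 1 ↔ a * g = g * a := by
  rw [disp, inv_mul_eq_one, mul_assoc, eq_inv_mul_iff_mul_eq, eq_comm]

theorem disp_conj (g x a : P) :
    disp (g⁻¹ * x * g) (g⁻¹ * a * g) = g⁻¹ * disp x a * g := by
  simp only [disp]; group

/-- `C` is the subgroup of elements centralising given generators of `A` over `V`. -/
theorem mem_cent_iff (hA : Setting A) {S : Set P} (hS : S ⊆ A)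
    (hgen : A ≤ closure (S ∪ ((invA hA : Subgroup P) : Set P))) {g : P} :
    g ∈ centralizer (A : Set P) ↔ g ∈ centV hA ∧ ∀ a ∈ S, disp g a = 1 := by
  constructor
  · exact fun hg => ⟨cent_le_centV hA hg, fun a ha =>
      disp_eq_one_iff.2 (mem_centralizer_iff.1 hg a (hS ha))⟩
  · rintro ⟨hgN, hgS⟩
    have h : closure (S ∪ ((invA hA : Subgroup P) : Set P)) ≤ centralizer {g} := by
      rw [closure_le]
      rintro a (ha | ha) <;> rw [SetLike.mem_coe, mem_centralizer_singleton_iff]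
      · exact disp_eq_one_iff.1 (hgS a ha)
      · exact mem_centralizer_iff.1 hgN a ha
    rw [mem_centralizer_iff]
    intro a ha
    exact (mem_centralizer_singleton_iff.1 (h (hgen ha)))

end Cfsg.Agent.Lib.FourGenerator
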