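import Mathlib
import Cfsg.Agent.Lib.FourGenerator.Setting
import Cfsg.Agent.Lib.FourGenerator.Coord

/-!
Coordinates on the action of `C_G(V)` on `A`.
-/

set_option autoImplicit false

namespace Cfsg.Agent.Lib.FourGenerator

open Subgroup

universe u

variable {P : Type u} [Group P] [Finite P] {A : Subgroup P}

/-- Coordinates: `e` identifies the plane with `V`, the first basis vector being central, and
`A` is generated by `a₁`, `a₂` over `V`, with `a₁ ^ 2 = e (1, 0)`. -/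
structure Frame (hA : Setting A) where
  e : Plane → P
  mem : ∀ v, e v ∈ invA hA
  surj : ∀ x ∈ invA hA, ∃ v, e v = x
  inj : Function.Injective e
  add : ∀ v w, e (v + w) = e v * e w
  central : ∀ g : P, g⁻¹ * e (1, 0) * g = e (1, 0)
  a₁ : P
  a₂ : P
  mem₁ : a₁ ∈ A
  mem₂ : a₂ ∈ A
  sq₁ : a₁ ^ 2 = e (1, 0)
  gen : A ≤ closure (({a₁, a₂} : Set P) ∪ ((invA hA : Subgroup P) : Set P))

variable {hA : Setting A} (fr : Frame hA)

theorem plane_cases : ∀ v : Plane, v = 0 ∨ v = (1, 0) ∨ v = (0, 1) ∨ v = (1, 0) + (0, 1) := by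
  decide

namespace Frame

theorem e_zero : fr.e 0 = 1 := by
  have h := fr.add 0 0
  rw [add_zero] at h
  exact left_eq_mul.1 h

/-- The coordinates of an element of `V`. -/
noncomputable def coord (x : P) : Plane := Function.invFun fr.e x

theorem coord_e (v : Plane) : fr.coord (fr.e v) = v := Function.leftInverse_invFun fr.inj v

theorem e_coord {x : P} (hx : x ∈ invA hA) : fr.e (fr.coord x) = x :=
  Function.invFun_eq (fr.surj x hx)

theorem coord_mul {x y : P} (hx : x ∈ invA hA) (hy : y ∈ invA hA) :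
    fr.coord (x * y) = fr.coord x + fr.coord y := by
  conv_lhs => rw [← fr.e_coord hx, ← fr.e_coord hy, ← fr.add, fr.coord_e]

include fr in
theorem card_invA : Nat.card (invA hA) = 4 := by
  rw [← Nat.card_congr (Equiv.ofBijective (fun v => (⟨fr.e v, fr.mem v⟩ : invA hA))
    ⟨fun v w h => fr.inj (congrArg Subtype.val h), fun x => by
      obtain ⟨v, hv⟩ := fr.surj x x.2
      exact ⟨v, Subtype.ext hv⟩⟩), Nat.card_eq_fintype_card]
  rfl

/-- The coordinates of the action of `g` on `A`. -/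
noncomputable def mu (g : P) : End4 := (fr.coord (disp g fr.a₁), fr.coord (disp g fr.a₂))

theorem mu_mul {g h : P} (hg : g ∈ centV hA) (hh : h ∈ centV hA) :
    fr.mu (g * h) = fr.mu g + fr.mu h := by
  simp only [mu, Prod.mk_add_mk, disp_mul_left hA hg hh fr.mem₁, disp_mul_left hA hg hh fr.mem₂,
    fr.coord_mul (disp_mem hA hg fr.mem₁) (disp_mem hA hh fr.mem₁),
    fr.coord_mul (disp_mem hA hg fr.mem₂) (disp_mem hA hh fr.mem₂)]

theorem mu_eq_zero_iff {g : P} (hg : g ∈ centV hA) :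
    fr.mu g = 0 ↔ g ∈ centralizer (A : Set P) := by
  have hS : ({fr.a₁, fr.a₂} : Set P) ⊆ A := by
    rintro a (rfl | rfl)
    exacts [fr.mem₁, fr.mem₂]
  rw [mem_cent_iff hA hS fr.gen]
  simp only [hg, true_and, Set.mem_insert_iff, Set.mem_singleton_iff, forall_eq_or_imp, forall_eq,
    mu, Prod.mk_eq_zero]
  constructor
  · rintro ⟨h1, h2⟩
    constructor
    · rw [← fr.e_coord (disp_mem hA hg fr.mem₁), h1, fr.e_zero]
    · rw [← fr.e_coord (disp_mem hA hg fr.mem₂), h2, fr.e_zero]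
  · rintro ⟨h1, h2⟩
    have h0 : fr.coord (1 : P) = 0 := by rw [← fr.e_zero, fr.coord_e]
    rw [h1, h2, h0]
    exact ⟨rfl, rfl⟩

theorem mu_inv {g : P} (hg : g ∈ centV hA) : fr.mu g⁻¹ = fr.mu g := by
  have h := fr.mu_mul (inv_mem hg) hg
  rw [inv_mul_cancel, (fr.mu_eq_zero_iff (one_mem _)).2 (one_mem _)] at h
  calc fr.mu g⁻¹ = fr.mu g⁻¹ + (fr.mu g + fr.mu g) := by
        rw [show fr.mu g + fr.mu g = 0 by ext <;> simp [CharTwo.add_self_eq_zero], add_zero]
    _ = fr.mu g := by rw [← add_assoc, ← h, zero_add]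

theorem mu_conj_of_mem {g x : P} (hg : g ∈ centV hA) (hx : x ∈ centV hA) :
    fr.mu (g⁻¹ * x * g) = fr.mu x := by
  rw [fr.mu_mul (mul_mem (inv_mem hg) hx) hg, fr.mu_mul (inv_mem hg) hx, fr.mu_inv hg,
    add_comm (fr.mu g) (fr.mu x), add_assoc]
  rw [show fr.mu g + fr.mu g = 0 by ext <;> simp [CharTwo.add_self_eq_zero], add_zero]

include fr in
theorem mu_sq {g : P} (hg : g ∈ centV hA) : g ^ 2 ∈ centralizer (A : Set P) := by
  rw [← fr.mu_eq_zero_iff (pow_mem hg 2), pow_two, fr.mu_mul hg hg]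
  ext <;> simp [CharTwo.add_self_eq_zero]

theorem comm_mem_cent {g x : P} (hx : x ∈ centV hA) (h : fr.mu (g⁻¹ * x * g) = fr.mu x) :
    x⁻¹ * (g⁻¹ * x * g) ∈ centralizer (A : Set P) := by
  haveI := centV_normal hA
  have hxg : g⁻¹ * x * g ∈ centV hA := by
    simpa using (centV_normal hA).conj_mem x hx g⁻¹
  rw [← fr.mu_eq_zero_iff (mul_mem (inv_mem hx) hxg), fr.mu_mul (inv_mem hx) hxg, fr.mu_inv hx, h]
  ext <;> simp [CharTwo.add_self_eq_zero]

theorem mu_conj_eq_of_comm {g x : P} (hx : x ∈ centV hA)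
    (h : x⁻¹ * (g⁻¹ * x * g) ∈ centralizer (A : Set P)) : fr.mu (g⁻¹ * x * g) = fr.mu x := by
  have h1 := fr.mu_mul hx (cent_le_centV hA h)
  rwa [(fr.mu_eq_zero_iff (cent_le_centV hA h)).2 h, add_zero, mul_inv_cancel_left] at h1

theorem conj_e_of_notMem {g : P} (hg : g ∉ centV hA) (v : Plane) :
    g⁻¹ * fr.e v * g = fr.e (shear v) := by
  have hc : ∀ v w, g⁻¹ * fr.e (v + w) * g = g⁻¹ * fr.e v * g * (g⁻¹ * fr.e w * g) := fun v w => by
    rw [fr.add]; group
  have h10 := fr.central g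
  have hmem : g⁻¹ * fr.e (0, 1) * g ∈ invA hA := by
    simpa using (invA_normal hA).conj_mem _ (fr.mem (0, 1)) g⁻¹
  obtain ⟨w, hw⟩ := fr.surj _ hmem
  have hne1 : w ≠ 0 := by
    rintro rfl
    rw [fr.e_zero] at hw
    have : fr.e (0, 1) = fr.e 0 := by
      rw [fr.e_zero]
      calc fr.e (0, 1) = g * (g⁻¹ * fr.e (0, 1) * g) * g⁻¹ := by group
        _ = 1 := by rw [← hw]; group
    exact absurd (fr.inj this) (by decide)
  have hne2 : w ≠ (1, 0) := by
    rintro rfl
    have : fr.e (0, 1) = fr.e (1, 0) := by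
      calc fr.e (0, 1) = g * (g⁻¹ * fr.e (0, 1) * g) * g⁻¹ := by group
        _ = g * (g⁻¹ * fr.e (1, 0) * g) * g⁻¹ := by rw [← hw, h10]
        _ = fr.e (1, 0) := by group
    exact absurd (fr.inj this) (by decide)
  have hne3 : w ≠ (0, 1) := by
    rintro rfl
    refine hg ((mem_centV hA).2 fun x hx => ?_)
    obtain ⟨v, rfl⟩ := fr.surj x hx
    have h00 : g⁻¹ * fr.e 0 * g = fr.e 0 := by rw [fr.e_zero]; group
    have h01 : g⁻¹ * fr.e (0, 1) * g = fr.e (0, 1) := hw.symm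
    rcases plane_cases v with
      rfl | rfl | rfl | rfl
    · exact h00
    · exact h10
    · exact h01
    · rw [hc, h10, h01, fr.add]
  have hw' : w = (1, 1) := by
    rcases plane_cases w with rfl | rfl | rfl | rfl
    exacts [absurd rfl hne1, absurd rfl hne2, absurd rfl hne3, rfl]
  subst hw'
  rcases plane_cases v with
    rfl | rfl | rfl | rfl
  · rw [fr.e_zero, show shear 0 = 0 by decide, fr.e_zero]; group
  · rw [h10, show shear (1, 0) = (1, 0) by decide]
  · rw [show shear (0, 1) = (1, 1) by decide]; exact hw.symm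
  · rw [hc, h10, ← hw, ← fr.add]
    rfl

/-- The first column of the conjugate. -/
theorem mu_conj_fst {g x : P} (hg : g ∉ centV hA) (hx : x ∈ centV hA) :
    (fr.mu (g⁻¹ * x * g)).1 = shear (fr.mu x).1 := by
  have hxg : g⁻¹ * x * g ∈ centV hA := by
    simpa using (centV_normal hA).conj_mem x hx g⁻¹
  set a' := g⁻¹ * fr.a₁ * g with ha'
  have ha'A : a' ∈ A := conj_mem_A hA fr.mem₁ g
  have hv : fr.a₁⁻¹ * a' ∈ invA hA := by
    refine ⟨mul_mem (inv_mem fr.mem₁) ha'A, ?_⟩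
    rw [(show Commute fr.a₁⁻¹ a' from hA.comm _ (inv_mem fr.mem₁) _ ha'A).mul_pow, inv_pow,
      conj_sq, fr.sq₁, fr.central g, inv_mul_cancel]
  have h1 : disp (g⁻¹ * x * g) a' = disp (g⁻¹ * x * g) fr.a₁ := by
    have := disp_mul_right hA hxg fr.mem₁ hv.1
    rw [mul_inv_cancel_left, disp_invA hA hxg hv, mul_one] at this
    exact this
  simp only [mu]
  rw [← h1, ha', disp_conj, ← fr.e_coord (disp_mem hA hx fr.mem₁), fr.conj_e_of_notMem hg,
    fr.coord_e, fr.coord_e]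

/-- The conjugate, when the squares of `a₁`, `a₂` are a basis. -/
theorem mu_conj_of_notMem (h2 : fr.a₂ ^ 2 = fr.e (0, 1)) {g x : P} (hg : g ∉ centV hA)
    (hx : x ∈ centV hA) : fr.mu (g⁻¹ * x * g) = conjShear (fr.mu x) := by
  have hxg : g⁻¹ * x * g ∈ centV hA := by
    simpa using (centV_normal hA).conj_mem x hx g⁻¹
  have hfst := fr.mu_conj_fst hg hx
  set a' := g⁻¹ * fr.a₂ * g with ha'
  set b := fr.a₁ * fr.a₂ with hb
  have ha'A : a' ∈ A := conj_mem_A hA fr.mem₂ g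
  have hbA : b ∈ A := mul_mem fr.mem₁ fr.mem₂
  have hbsq : a' ^ 2 = b ^ 2 := by
    rw [ha', conj_sq, h2, fr.conj_e_of_notMem hg, hb,
      (show Commute fr.a₁ fr.a₂ from hA.comm _ fr.mem₁ _ fr.mem₂).mul_pow, fr.sq₁, h2, ← fr.add]
    rfl
  have hv : b⁻¹ * a' ∈ invA hA := by
    refine ⟨mul_mem (inv_mem hbA) ha'A, ?_⟩
    rw [(show Commute b⁻¹ a' from hA.comm _ (inv_mem hbA) _ ha'A).mul_pow, inv_pow, hbsq,
      inv_mul_cancel]
  have h1 : disp (g⁻¹ * x * g) a' =
      disp (g⁻¹ * x * g) fr.a₁ * disp (g⁻¹ * x * g) fr.a₂ := by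
    have := disp_mul_right hA hxg hbA hv.1
    rw [mul_inv_cancel_left, disp_invA hA hxg hv, mul_one] at this
    rw [this, hb, disp_mul_right hA hxg fr.mem₁ fr.mem₂]
  have h3 : (fr.mu (g⁻¹ * x * g)).1 + (fr.mu (g⁻¹ * x * g)).2 = shear (fr.mu x).2 := by
    simp only [mu]
    rw [← fr.coord_mul (disp_mem hA hxg fr.mem₁) (disp_mem hA hxg fr.mem₂), ← h1, ha', disp_conj,
      ← fr.e_coord (disp_mem hA hx fr.mem₂), fr.conj_e_of_notMem hg, fr.coord_e, fr.coord_e]
  refine Prod.ext hfst ?_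
  revert hfst h3
  generalize fr.mu (g⁻¹ * x * g) = n
  generalize fr.mu x = m
  intro hfst h3
  calc n.2 = n.1 + n.2 + n.1 :=
        (show ∀ a b : Plane, b = a + b + a by decide) n.1 n.2
    _ = shear m.2 + shear m.1 := by rw [h3, hfst]
    _ = (conjShear m).2 :=
        (show ∀ a b : Plane, shear b + shear a = shear (a + b) by decide) m.1 m.2

theorem exists_sqrt (h2 : fr.a₂ ^ 2 = fr.e (0, 1)) (v : Plane) :
    ∃ a ∈ A, a ^ 2 = fr.e v := by
  rcases plane_cases v with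
    rfl | rfl | rfl | rfl
  · exact ⟨1, one_mem A, by rw [one_pow, fr.e_zero]⟩
  · exact ⟨_, fr.mem₁, fr.sq₁⟩
  · exact ⟨_, fr.mem₂, h2⟩
  · exact ⟨_, mul_mem fr.mem₁ fr.mem₂, by
      rw [(show Commute fr.a₁ fr.a₂ from hA.comm _ fr.mem₁ _ fr.mem₂).mul_pow, fr.sq₁, h2,
        fr.add]⟩

/-- The action is given by the squares. -/
theorem disp_eq_app (h2 : fr.a₂ ^ 2 = fr.e (0, 1)) {g : P} (hg : g ∈ centV hA) {a : P}
    (ha : a ∈ A) : disp g a = fr.e (app (fr.mu g) (fr.coord (a ^ 2))) := by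
  have hcl : ∀ a ∈ closure (({fr.a₁, fr.a₂} : Set P) ∪ ((invA hA : Subgroup P) : Set P)),
      a ∈ A ∧ disp g a = fr.e (app (fr.mu g) (fr.coord (a ^ 2))) := by
    intro a ha
    induction ha using Subgroup.closure_induction with
    | mem a ha =>
      rcases ha with (rfl | rfl) | ha
      · refine ⟨fr.mem₁, ?_⟩
        rw [fr.sq₁, fr.coord_e, show app (fr.mu g) (1, 0) = (fr.mu g).1 by simp [app]]
        exact (fr.e_coord (disp_mem hA hg fr.mem₁)).symm
      · refine ⟨fr.mem₂, ?_⟩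
        rw [h2, fr.coord_e, show app (fr.mu g) (0, 1) = (fr.mu g).2 by simp [app]]
        exact (fr.e_coord (disp_mem hA hg fr.mem₂)).symm
      · refine ⟨ha.1, ?_⟩
        rw [disp_invA hA hg ha, ha.2, ← fr.e_zero, fr.coord_e,
          show app (fr.mu g) 0 = 0 by simp [app]]
    | one =>
      refine ⟨one_mem A, ?_⟩
      rw [disp_invA hA hg (one_mem _), one_pow, ← fr.e_zero, fr.coord_e,
        show app (fr.mu g) 0 = 0 by simp [app]]
    | mul a b _ _ iha ihb =>
      refine ⟨mul_mem iha.1 ihb.1, ?_⟩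
      rw [disp_mul_right hA hg iha.1 ihb.1, iha.2, ihb.2, ← fr.add,
        (show Commute a b from hA.comm _ iha.1 _ ihb.1).mul_pow,
        fr.coord_mul (sq_mem_invA hA iha.1) (sq_mem_invA hA ihb.1)]
      congr 1
      simp only [app, Prod.fst_add, Prod.snd_add, Prod.mk_add_mk]
      ext <;> simp <;> ring
    | inv a _ iha =>
      refine ⟨inv_mem iha.1, ?_⟩
      have h := disp_mul_right hA hg (inv_mem iha.1) iha.1
      rw [inv_mul_cancel, disp_invA hA hg (one_mem _)] at h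
      have hd := disp_mem hA hg iha.1
      have hi : (disp g a)⁻¹ = disp g a :=
        inv_eq_of_mul_eq_one_left (by rw [← pow_two]; exact hd.2)
      rw [eq_inv_of_mul_eq_one_left h.symm, hi, iha.2, inv_pow,
        show (a ^ 2)⁻¹ = a ^ 2 from inv_eq_of_mul_eq_one_left (by
          rw [← pow_two]; exact (sq_mem_invA hA iha.1).2)]
  exact (hcl a (fr.gen ha)).2

end Frame

end Cfsg.Agent.Lib.FourGenerator
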