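import Mathlib
import Cfsg.Agent.Lib.FourGenerator.Frame

/-!
The key steps: a good fixed element of the action has no lift squaring into `V`, and the action is
not all of `End V`.
-/

set_option autoImplicit false

namespace Cfsg.Agent.Lib.FourGenerator

open Subgroup

universe u

variable {P : Type u} [Group P] [Finite P] {A : Subgroup P} {hA : Setting A} (fr : Frame hA)

/-- The endomorphism is fixed by the whole group. -/
def FixedAll {P : Type u} [Group P] {A : Subgroup P} [Finite P] (hA : Setting A) (m : End4) : Prop :=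
  (∃ g : P, g ∉ centV hA) → conjShear m = m

namespace Frame

variable (h2 : fr.a₂ ^ 2 = fr.e (0, 1))
include h2

theorem sq_mem_of_inj {x : P} (hx : x ∈ centV hA) (hm : Inj4 (fr.mu x)) : x ^ 2 ∈ invA hA := by
  have hc := fr.mu_sq hx
  refine mem_invA_of_cent hA hc ?_
  by_contra hne
  obtain ⟨k, hkA, hk⟩ := exists_pow_order_four hA hc hne
  have hd : disp x ((x ^ 2) ^ k) = 1 :=
    disp_eq_one_iff.2 (((Commute.refl x).pow_left 2).pow_left k).eq
  rw [fr.disp_eq_app h2 hx hkA, ← fr.e_zero] at hd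
  have h0 := hm _ (fr.inj hd)
  apply hk
  rw [← fr.e_coord (sq_mem_invA hA hkA), h0, fr.e_zero]

/-- A good element with a lift squaring into `V` lifts to an involution inverting no element of
`C` of order more than two. -/
theorem exists_involution {x : P} (hx : x ∈ centV hA) (hm : Good (fr.mu x))
    (hsq : x ^ 2 ∈ invA hA) : ∃ y ∈ centV hA, fr.mu y = fr.mu x ∧ y * y = 1 ∧
      ∀ c ∈ centralizer (A : Set P), y * c * y = c⁻¹ → c ^ 2 = 1 := by
  obtain ⟨v, hv⟩ := exists_add_app hm.2 (fr.coord (x ^ 2))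
  obtain ⟨a, ha, hav⟩ := fr.exists_sqrt h2 v
  have haC := A_le_cent hA ha
  have haN := cent_le_centV hA haC
  have hyN : x * a ∈ centV hA := mul_mem hx haN
  have hmu : fr.mu (x * a) = fr.mu x := by
    rw [fr.mu_mul hx haN, (fr.mu_eq_zero_iff haN).2 haC, add_zero]
  have hy1 : x * a * (x * a) = 1 := by
    have hd : disp x a = fr.e (app (fr.mu x) v) := by
      rw [fr.disp_eq_app h2 hx ha, hav, fr.coord_e]
    calc x * a * (x * a) = x ^ 2 * ((x⁻¹ * a * x) * a) := by rw [pow_two]; group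
      _ = x ^ 2 * (a * disp x a * a) := by simp only [disp]; group
      _ = x ^ 2 * (a * (a * disp x a)) := by
          rw [mul_assoc a (disp x a) a, hA.comm _ (disp_mem hA hx ha).1 _ ha]
      _ = fr.e (fr.coord (x ^ 2)) * (a ^ 2 * disp x a) := by
          rw [fr.e_coord hsq, pow_two a, mul_assoc a a]
      _ = 1 := by
          rw [hav, hd, ← fr.add, ← fr.add, hv, ← fr.e_zero]
          congr 1
          exact (show ∀ s : Plane, s + s = 0 by decide) _
  have hyinv : (x * a)⁻¹ = x * a := inv_eq_of_mul_eq_one_left hy1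
  refine ⟨x * a, hyN, hmu, hy1, fun c hc hinv => ?_⟩
  by_contra hne
  obtain ⟨k, hkA, hk⟩ := exists_pow_order_four hA hc hne
  have hinvk : (x * a) * c ^ k * (x * a) = (c ^ k)⁻¹ := by
    calc (x * a) * c ^ k * (x * a) = (x * a) * c ^ k * (x * a)⁻¹ := by rw [hyinv]
      _ = ((x * a) * c * (x * a)⁻¹) ^ k := (conj_pow).symm
      _ = ((x * a) * c * (x * a)) ^ k := by rw [hyinv]
      _ = (c ^ k)⁻¹ := by rw [hinv, inv_pow]
  set b := c ^ k with hb
  have hd : disp (x * a) b = b ^ 2 := by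
    rw [disp, hyinv, hinvk, pow_two]
    calc b⁻¹ * b⁻¹ = (b * b)⁻¹ := (mul_inv_rev b b).symm
      _ = b * b := inv_eq_of_mul_eq_one_left (by
          have := (sq_mem_invA hA hkA).2
          rwa [pow_two (b ^ 2), pow_two] at this)
  rw [fr.disp_eq_app h2 hyN hkA, hmu] at hd
  conv_rhs at hd => rw [← fr.e_coord (sq_mem_invA hA hkA)]
  have h0 := hm.2 (fr.coord (b ^ 2)) (by
    rw [fr.inj hd]; exact (show ∀ s : Plane, s + s = 0 by decide) _)
  apply hk
  rw [← fr.e_coord (sq_mem_invA hA hkA), h0, fr.e_zero]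

omit h2 in
/-- Such an involution commutes modulo `V` with the elements fixing its action. -/
theorem comm_mem_invA {y : P} (hyN : y ∈ centV hA) (hy : y * y = 1)
    (hinv : ∀ c ∈ centralizer (A : Set P), y * c * y = c⁻¹ → c ^ 2 = 1) {g : P}
    (h : fr.mu (g⁻¹ * y * g) = fr.mu y) : y⁻¹ * (g⁻¹ * y * g) ∈ invA hA := by
  have hyinv : y⁻¹ = y := inv_eq_of_mul_eq_one_left hy
  have hc := fr.comm_mem_cent hyN h
  refine mem_invA_of_cent hA hc (hinv _ hc ?_)
  calc y * (y⁻¹ * (g⁻¹ * y * g)) * y = g⁻¹ * y * g * y := by group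
    _ = g⁻¹ * y⁻¹ * g * y := by rw [hyinv]
    _ = (y⁻¹ * (g⁻¹ * y * g))⁻¹ := by group

theorem false_of_fixed_good {x : P} (hx : x ∈ centV hA) (hm : Good (fr.mu x))
    (hfix : FixedAll hA (fr.mu x)) (hsq : x ^ 2 ∈ invA hA) : False := by
  obtain ⟨y, hyN, hmu, hy, hinv⟩ := fr.exists_involution h2 hx hm hsq
  have hall : ∀ g : P, y⁻¹ * (g⁻¹ * y * g) ∈ invA hA := by
    intro g
    refine fr.comm_mem_invA hyN hy hinv ?_
    by_cases hg : g ∈ centV hA
    · exact fr.mu_conj_of_mem hg hyN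
    · rw [fr.mu_conj_of_notMem h2 hg hyN, hmu, hfix ⟨g, hg⟩]
  haveI hVn := invA_normal hA
  have hyV : ∀ v ∈ invA hA, Commute y v := fun v hv => (mem_centralizer_iff.1 hyN v hv).symm
  set T : Set P := insert y ((invA hA : Subgroup P) : Set P) with hT
  set E := closure T with hE
  have hcomm : ∀ a ∈ T, ∀ b ∈ T, a * b = b * a := by
    rintro a (rfl | ha) b (rfl | hb)
    · rfl
    · exact (hyV b hb).eq
    · exact (hyV a ha).symm.eq
    · exact hA.comm a ha.1 b hb.1
  haveI hEc : IsMulCommutative E := Subgroup.isMulCommutative_closure hcomm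
  have hE2 : ∀ a ∈ E, a ^ 2 = 1 := by
    intro a ha
    induction ha using Subgroup.closure_induction with
    | mem a ha =>
      rcases ha with rfl | ha
      · rw [pow_two, hy]
      · exact ha.2
    | one => exact one_pow 2
    | mul a b ha hb iha ihb =>
      rw [(show Commute a b from congrArg Subtype.val (hEc.is_comm.comm ⟨a, ha⟩ ⟨b, hb⟩)).mul_pow,
        iha, ihb, one_mul]
    | inv a _ iha => rw [inv_pow, iha, inv_one]
  have hEn : E.Normal := by
    refine ⟨fun a ha g => ?_⟩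
    induction ha using Subgroup.closure_induction with
    | mem a ha =>
      rcases ha with rfl | ha
      · have h1 : g * a * g⁻¹ = a * (a⁻¹ * (g⁻¹⁻¹ * a * g⁻¹)) := by group
        rw [h1]
        exact mul_mem (subset_closure (Set.mem_insert _ _))
          (subset_closure (Set.mem_insert_of_mem _ (hall g⁻¹)))
      · exact subset_closure (Set.mem_insert_of_mem _ (hVn.conj_mem a ha g))
    | one => simp
    | mul a b _ _ iha ihb => rw [← conj_mul]; exact mul_mem iha ihb
    | inv a _ iha => rw [← conj_inv]; exact inv_mem iha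
  have hlt : invA hA < E := by
    refine lt_of_le_of_ne (fun v hv => subset_closure (Set.mem_insert_of_mem _ hv)) fun heq => ?_
    have hyV' : y ∈ invA hA := heq ▸ subset_closure (Set.mem_insert _ _)
    exact hm.1 (hmu ▸ (fr.mu_eq_zero_iff hyN).2 (A_le_cent hA hyV'.1))
  have h4 := hA.small E hEn hEc hE2
  have h1 : Nat.card (invA hA) < Nat.card E := by
    rcases lt_or_ge (Nat.card (invA hA)) (Nat.card E) with h | h
    · exact h
    · exact absurd (Subgroup.eq_of_le_of_card_ge hlt.le h) hlt.ne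
  rw [fr.card_invA] at h1
  omega

theorem not_all_end4 : ¬ ∀ m : End4, ∃ x ∈ centV hA, fr.mu x = m := by
  intro h
  obtain ⟨x₁, hx₁, hm₁⟩ := h rotA
  obtain ⟨x₂, hx₂, hm₂⟩ := h rotB
  obtain ⟨g, hg, hmg⟩ := h transU
  obtain ⟨y₁, hy₁N, hμ₁, hy₁, hinv₁⟩ := fr.exists_involution h2 hx₁ (hm₁ ▸ good_rotA)
    (fr.sq_mem_of_inj h2 hx₁ (hm₁ ▸ inj_rotA))
  obtain ⟨y₂, hy₂N, hμ₂, hy₂, hinv₂⟩ := fr.exists_involution h2 hx₂ (hm₂ ▸ good_rotB)
    (fr.sq_mem_of_inj h2 hx₂ (hm₂ ▸ inj_rotB))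
  have hgsq := fr.sq_mem_of_inj h2 hg (hmg ▸ inj_transU)
  have hμz : fr.mu (y₁ * y₂ * g) = nilU := by
    rw [fr.mu_mul (mul_mem hy₁N hy₂N) hg, fr.mu_mul hy₁N hy₂N, hμ₁, hμ₂, hm₁, hm₂, hmg,
      rot_add_trans]
  haveI hVn := invA_normal hA
  let π := QuotientGroup.mk' (invA hA)
  have hsq1 : ∀ {a : P}, a ^ 2 ∈ invA hA → π a * π a = 1 := by
    intro a ha
    rw [← map_mul, ← pow_two, QuotientGroup.mk'_apply, QuotientGroup.eq_one_iff]
    exact ha
  have hcomm : ∀ {y k : P}, y⁻¹ * (k⁻¹ * y * k) ∈ invA hA → Commute (π y) (π k) := by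
    intro y k hk
    have h' : π (y⁻¹ * (k⁻¹ * y * k)) = 1 := by
      rw [QuotientGroup.mk'_apply, QuotientGroup.eq_one_iff]
      exact hk
    simp only [map_mul, map_inv] at h'
    rw [inv_mul_eq_one, mul_assoc, eq_inv_mul_iff_mul_eq] at h'
    exact h'.symm
  have h1g := hcomm (fr.comm_mem_invA hy₁N hy₁ hinv₁ (fr.mu_conj_of_mem hg hy₁N))
  have h2g := hcomm (fr.comm_mem_invA hy₂N hy₂ hinv₂ (fr.mu_conj_of_mem hg hy₂N))
  have h12 := hcomm (fr.comm_mem_invA hy₁N hy₁ hinv₁ (fr.mu_conj_of_mem hy₂N hy₁N))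
  have hz : (y₁ * y₂ * g) ^ 2 ∈ invA hA := by
    rw [← QuotientGroup.eq_one_iff, ← QuotientGroup.mk'_apply, map_pow]
    show π (y₁ * y₂ * g) ^ 2 = 1
    rw [map_mul, map_mul, (h1g.mul_left h2g).mul_pow, h12.mul_pow, pow_two, pow_two, pow_two,
      hsq1 hgsq, hsq1 (by rw [pow_two, hy₁]; exact one_mem _),
      hsq1 (by rw [pow_two, hy₂]; exact one_mem _), one_mul, one_mul]
  exact fr.false_of_fixed_good h2 (mul_mem (mul_mem hy₁N hy₂N) hg) (hμz ▸ good_nilU)
    (fun _ => hμz ▸ conjShear_nilU) hz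

end Frame

end Cfsg.Agent.Lib.FourGenerator
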