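import Mathlib
import Cfsg.Agent.Lib.FourGenerator.Involution
import Cfsg.Agent.Lib.SectRank.Basic
import Cfsg.Agent.Lib.Puig.Basic

/-!
MacWilliams' four generator theorem: a finite `2`-group with no normal elementary abelian subgroup
of order eight has sectional rank at most four.
-/

set_option autoImplicit false

namespace Cfsg.Agent.Lib.FourGenerator

open Subgroup

universe u

variable {P : Type u} [Group P] [Finite P] {A : Subgroup P}

theorem plane_eq_of_add_eq_zero : ∀ a b : Plane, a + b = 0 → a = b := by decide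

theorem pow_two_cases {n : ℕ} {c : ℕ} (h : n ∣ 2 ^ c) (h8 : 8 ≤ n) (h16 : n < 16) : n = 8 := by
  obtain ⟨k, -, rfl⟩ := (Nat.dvd_prime_pow Nat.prime_two).1 h
  have h1 : 3 ≤ k := by
    by_contra hk
    have := Nat.pow_lt_pow_right (show 1 < 2 by norm_num) (show k < 3 by omega)
    omega
  have h2 : k < 4 := by
    by_contra hk
    have := Nat.pow_le_pow_right (show 0 < 2 by norm_num) (show 4 ≤ k by omega)
    omega
  obtain rfl : k = 3 := by omega
  rfl

theorem four_le_of_two_lt {n c : ℕ} (h : n ∣ 2 ^ c) (h4 : 4 < n) : 8 ≤ n := by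
  obtain ⟨k, -, rfl⟩ := (Nat.dvd_prime_pow Nat.prime_two).1 h
  have h1 : 3 ≤ k := by
    by_contra hk
    have := Nat.pow_le_pow_right (show 0 < 2 by norm_num) (show k ≤ 2 by omega)
    omega
  exact (Nat.pow_le_pow_right (by norm_num) h1 : 2 ^ 3 ≤ 2 ^ k)

/-- In the intersection of a section with `C`: the bound and the squares. -/
theorem inner_bound (hA : Setting A) (H N : Subgroup P) (hsq : ∀ a ∈ H, a ^ 2 ∈ N) :
    N.relIndex (centralizer (A : Set P) ⊓ H) ≤ Nat.card (invA hA) ∧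
      (Nat.card (invA hA) ≤ N.relIndex (centralizer (A : Set P) ⊓ H) →
        ∀ n ∈ N, n ∈ centralizer (A : Set P) ⊓ H →
          ∃ d ∈ centralizer (A : Set P) ⊓ H, n = d ^ 2) := by
  set D := centralizer (A : Set P) ⊓ H with hD
  have hc : CenFour D := fun x y hx => by
    have h1 : (x : P) ∈ A := hA.mem_of _ x.2.1 (by simpa using congrArg Subtype.val hx)
    exact Subtype.ext (mem_centralizer_iff.1 y.2.1 _ h1)
  obtain ⟨h1, h2⟩ := index_le_and_sq (hA.pg.to_subgroup D) hc (N.subgroupOf D) fun x => by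
    rw [mem_subgroupOf]
    simpa using hsq (x : P) x.2.2
  have hle : Nat.card (omega hc) ≤ Nat.card (invA hA) := by
    refine Nat.card_le_card_of_injective
      (fun x => ⟨((x : D) : P), mem_invA_of_cent hA (x : D).2.1 ?_⟩) fun x y h => ?_
    · simpa using congrArg Subtype.val (mem_omega.1 x.2)
    · exact Subtype.ext (Subtype.ext (congrArg (fun a : invA hA => (a : P)) h))
  refine ⟨h1.trans hle, fun hge n hn hnD => ?_⟩
  obtain ⟨w, hw⟩ := h2 (hle.trans hge) ⟨n, hnD⟩ hn
  exact ⟨w, w.2, by simpa using congrArg Subtype.val hw⟩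

/-- A bound `|H : N| ≤ 16` for a section, from the index of `C` and the structure of the action. -/
theorem outer_split (hA : Setting A) {H N : Subgroup P}
    (h : Cfsg.Agent.Lib.SectRank.IsElemSection 2 N H) :
    ∃ k : ℕ, N.relIndex H = k * N.relIndex (centralizer (A : Set P) ⊓ H) ∧
      k ∣ (centralizer (A : Set P)).relIndex H ∧ (∃ c, k ∣ 2 ^ c) ∧
      ((centralizer (A : Set P)).relIndex H ≤ k →
        ∀ g ∈ H, ∀ x ∈ H, x⁻¹ * (g⁻¹ * x * g) ∈ centralizer (A : Set P)) := by
  haveI := hA.normal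
  haveI hn : (N.subgroupOf H).Normal := ⟨fun n hn a => mem_subgroupOf.mpr (by
    simpa using h.conj_mem a.2 (mem_subgroupOf.mp hn))⟩
  set C := centralizer (A : Set P) with hC
  set K := N.subgroupOf H ⊔ C.subgroupOf H with hK
  have hD : (N.subgroupOf H).relIndex (C.subgroupOf H) = N.relIndex (C ⊓ H) := by
    rw [← Subgroup.relIndex_map_map_of_injective _ _ H.subtype_injective,
      subgroupOf_map_subtype, subgroupOf_map_subtype, ← Subgroup.inf_relIndex_right,
      ← Subgroup.inf_relIndex_right N (C ⊓ H)]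
    congr 1
    ext x
    simp only [mem_inf]
    tauto
  refine ⟨K.index, ?_, index_dvd_of_le le_sup_right, ?_, fun hle g hg x hx => ?_⟩
  · show (N.subgroupOf H).index = _
    rw [← relIndex_mul_index (le_sup_left : N.subgroupOf H ≤ K), hK,
      sup_comm (N.subgroupOf H) (C.subgroupOf H), relIndex_sup_right, hD, mul_comm]
  · haveI : Fact (Nat.Prime 2) := ⟨Nat.prime_two⟩
    obtain ⟨c, hc⟩ := (hA.pg.to_subgroup H).index K
    exact ⟨c, hc.dvd⟩
  · have heq : C.subgroupOf H = K := by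
      have hmul := relIndex_mul_index (le_sup_right : C.subgroupOf H ≤ K)
      have h1 : (C.subgroupOf H).relIndex K = 1 := by
        have hpos : 0 < K.index := Nat.pos_of_ne_zero index_ne_zero_of_finite
        have hpos2 : 0 < (C.subgroupOf H).relIndex K :=
          Nat.pos_of_ne_zero index_ne_zero_of_finite
        have : (C.subgroupOf H).relIndex K * K.index ≤ 1 * K.index := by
          rw [hmul, one_mul]; exact hle
        have := Nat.le_of_mul_le_mul_right this hpos
        omega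
      exact le_antisymm le_sup_right (relIndex_eq_one.1 h1)
    have hmem : x⁻¹ * (g⁻¹ * x * g) ∈ N := by
      have := h.comm x⁻¹ (inv_mem hx) g⁻¹ (inv_mem hg)
      simpa [mul_assoc] using this
    have hin : (⟨x⁻¹ * (g⁻¹ * x * g), h.le hmem⟩ : H) ∈ C.subgroupOf H :=
      heq ▸ mem_sup_left (mem_subgroupOf.2 hmem)
    exact mem_subgroupOf.1 hin

/-- The action of `G` on `V` has image of order at most two. -/
theorem index_centV_le (hA : Setting A) : (centV hA).index ≤ 2 := by
  haveI : Fact (Nat.Prime 2) := ⟨Nat.prime_two⟩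
  haveI := invA_normal hA
  by_cases hV1 : invA hA = ⊥
  · have : centV hA = ⊤ := eq_top_iff.2 fun g _ => (mem_centV hA).2 fun v hv => by
      rw [hV1, mem_bot] at hv; rw [hv]; group
    rw [this, index_top]; omega
  obtain ⟨z, ⟨hzV, hzc'⟩, hz1⟩ :=
    Cfsg.Agent.Lib.Puig.exists_mem_center_of_normal hA.pg (invA hA) hV1
  have hzc : ∀ g : P, z * g = g * z := fun g => (mem_center_iff.1 hzc' g).symm
  by_cases hex : ∀ v ∈ invA hA, v = 1 ∨ v = z
  · have : centV hA = ⊤ := eq_top_iff.2 fun g _ => (mem_centV hA).2 fun v hv => by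
      rcases hex v hv with rfl | rfl
      · group
      · rw [mul_assoc, hzc g]; group
    rw [this, index_top]; omega
  push Not at hex
  obtain ⟨w, hwV, hw1, hwz⟩ := hex
  have hzz : z * z = 1 := by rw [← pow_two]; exact hzV.2
  have hww : w * w = 1 := by rw [← pow_two]; exact hwV.2
  -- `V` consists of `1`, `z`, `w`, `z w`
  have hsub : ({1, z, w, z * w} : Set P) ⊆ ((invA hA : Subgroup P) : Set P) := by
    rintro x (rfl | rfl | rfl | rfl)
    exacts [one_mem _, hzV, hwV, mul_mem hzV hwV]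
  have hn1 : z * w ≠ 1 := fun h => hwz (by
    calc w = z * (z * w) := by rw [← mul_assoc, hzz, one_mul]
      _ = z := by rw [h, mul_one])
  have hn2 : z * w ≠ z := fun h => hw1 (mul_eq_left.1 h)
  have hn3 : z * w ≠ w := fun h => hz1 (mul_eq_right.1 h)
  have hcard : ({1, z, w, z * w} : Set P).ncard = 4 := by
    rw [Set.ncard_insert_of_notMem (by simp [Ne.symm hz1, Ne.symm hw1, Ne.symm hn1]),
      Set.ncard_insert_of_notMem (by simp [Ne.symm hwz, Ne.symm hn2]),
      Set.ncard_insert_of_notMem (by simp [Ne.symm hn3]), Set.ncard_singleton]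
  have hVeq : ({1, z, w, z * w} : Set P) = ((invA hA : Subgroup P) : Set P) :=
    Set.eq_of_subset_of_ncard_le hsub (by
      rw [hcard, ← Nat.card_coe_set_eq]; exact invA_card_le hA) (Set.toFinite _)
  have hkey : ∀ g : P, disp g w = 1 ∨ disp g w = z := by
    intro g
    have hmem : g⁻¹ * w * g ∈ ({1, z, w, z * w} : Set P) := by
      rw [hVeq]; simpa using (invA_normal hA).conj_mem w hwV g⁻¹
    have hw' : w = g * (g⁻¹ * w * g) * g⁻¹ := by group
    rcases hmem with h | h | h | h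
    · exact absurd (by rw [hw', h]; group) hw1
    · exact absurd (by rw [hw', h, ← hzc g]; group) hwz
    · exact Or.inl (by rw [disp, h, inv_mul_cancel])
    · exact Or.inr (by rw [disp, h, hzc w, inv_mul_cancel_left])
  have hcomm : ∀ g x : P, disp g w * x = x * disp g w := by
    intro g x
    rcases hkey g with h | h
    · rw [h, one_mul, mul_one]
    · rw [h, hzc x]
  let f : P →* P := MonoidHom.mk' (fun g => disp g w) fun g k => by
    calc disp (g * k) w = w⁻¹ * (k⁻¹ * w * (disp g w * k)) := by simp only [disp]; group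
      _ = w⁻¹ * (k⁻¹ * w * (k * disp g w)) := by rw [hcomm g k]
      _ = disp k w * disp g w := by simp only [disp]; group
      _ = disp g w * disp k w := (hcomm g _).symm
  have hker : f.ker ≤ centV hA := by
    intro g hg
    have h1 : w * g = g * w := disp_eq_one_iff.1 hg
    refine mem_centralizer_iff.2 fun v hv => ?_
    rw [← hVeq] at hv
    rcases hv with rfl | rfl | rfl | rfl
    · rw [one_mul, mul_one]
    · exact hzc g
    · exact h1
    · rw [mul_assoc, h1, ← mul_assoc, hzc g, mul_assoc]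
  calc (centV hA).index ≤ f.ker.index :=
        Nat.le_of_dvd (Nat.pos_of_ne_zero index_ne_zero_of_finite) (index_dvd_of_le hker)
    _ = Nat.card (f.range : Set P) := index_ker f
    _ ≤ Nat.card ({1, z} : Set P) := Nat.card_mono (Set.toFinite _) (by
        rintro _ ⟨g, rfl⟩
        exact hkey g)
    _ ≤ 2 := by
        rw [Nat.card_coe_set_eq]
        exact (Set.ncard_insert_le _ _).trans (by simp)

namespace Frame

variable {hA : Setting A} (fr : Frame hA)

/-- The image of a subgroup of `C_G(V)` in `End V`. -/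
def image (L : Subgroup P) : Set End4 := {m | ∃ x ∈ L, fr.mu x = m}

theorem relIndex_eq_card_image {L : Subgroup P} (hL : L ≤ centV hA) :
    (centralizer (A : Set P)).relIndex L = Nat.card (fr.image L) := by
  let f : L →* Multiplicative End4 :=
    MonoidHom.mk' (fun x => Multiplicative.ofAdd (fr.mu x)) fun x y => by
      rw [Subgroup.coe_mul, fr.mu_mul (hL x.2) (hL y.2), ofAdd_add]
  have hker : f.ker = (centralizer (A : Set P)).subgroupOf L := by
    ext x
    rw [MonoidHom.mem_ker, mem_subgroupOf, ← fr.mu_eq_zero_iff (hL x.2)]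
    exact ofAdd_eq_one
  have h := index_ker f
  rw [hker] at h
  refine h.trans (Nat.card_congr ((Multiplicative.toAdd).subtypeEquiv fun m => ?_))
  constructor
  · rintro ⟨x, rfl⟩; exact ⟨x, x.2, rfl⟩
  · rintro ⟨x, hx, hxm⟩; exact ⟨⟨x, hx⟩, congrArg Multiplicative.ofAdd hxm⟩

/-- The image of `C_G(V)` as an additive group. -/
def imageAdd : AddSubgroup End4 where
  carrier := fr.image (centV hA)
  zero_mem' := ⟨1, one_mem _, (fr.mu_eq_zero_iff (one_mem _)).2 (one_mem _)⟩
  add_mem' := by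
    rintro _ _ ⟨x, hx, rfl⟩ ⟨y, hy, rfl⟩
    exact ⟨x * y, mul_mem hx hy, fr.mu_mul hx hy⟩
  neg_mem' := by
    rintro _ ⟨x, hx, rfl⟩
    exact ⟨x, hx, ((show ∀ m : End4, -m = m by decide) _).symm⟩

theorem relIndex_le (L : Subgroup P) :
    (centralizer (A : Set P)).relIndex L ≤
      2 * Nat.card (fr.image (L ⊓ centV hA)) := by
  haveI := centV_normal hA
  rw [← fr.relIndex_eq_card_image (inf_le_right : L ⊓ centV hA ≤ centV hA), inf_comm,
    mul_comm]
  calc (centralizer (A : Set P)).relIndex L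
      = (centralizer (A : Set P) ⊓ centV hA).relIndex L := by
        rw [inf_eq_left.2 (cent_le_centV hA)]
    _ = (centralizer (A : Set P)).relIndex (centV hA ⊓ L) * (centV hA).relIndex L :=
        (relIndex_inf_mul_relIndex _ _ _).symm
    _ ≤ _ := Nat.mul_le_mul_left _ ((Nat.le_of_dvd (Nat.pos_of_ne_zero index_ne_zero_of_finite)
        (relIndex_dvd_index_of_normal _ _)).trans (index_centV_le hA))

include fr in
theorem relIndex_le_four {H N : Subgroup P} (ha2 : fr.a₂ = 1)
    (h : Cfsg.Agent.Lib.SectRank.IsElemSection 2 N H) : N.relIndex H ≤ 16 := by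
  obtain ⟨k, hk, hkD, ⟨c, hkc⟩, hab⟩ := outer_split hA h
  obtain ⟨hd, -⟩ := inner_bound hA H N h.pow
  rw [fr.card_invA] at hd
  by_contra hgt
  rw [hk] at hgt
  have hk4 : 4 < k := by
    by_contra hk4
    exact hgt ((Nat.mul_le_mul (by omega : k ≤ 4) hd).trans (by norm_num))
  have hk8 := four_le_of_two_lt hkc hk4
  have hDle : k ≤ (centralizer (A : Set P)).relIndex H :=
    Nat.le_of_dvd (Nat.pos_of_ne_zero index_ne_zero_of_finite) hkD
  have hsub : ∀ m ∈ fr.image (centV hA), m.2 = 0 := by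
    rintro _ ⟨x, hx, rfl⟩
    simp only [mu, ha2, disp_invA hA hx (one_mem _)]
    rw [← fr.e_zero, fr.coord_e]
  have hcard : ∀ L ≤ centV hA, Nat.card (fr.image L) ≤ 4 := by
    intro L hL
    calc Nat.card (fr.image L) ≤ Nat.card Plane :=
          Nat.card_le_card_of_injective (fun m : fr.image L => (m : End4).1) fun m n hmn => by
            obtain ⟨x, hx, hxm⟩ := m.2
            obtain ⟨y, hy, hyn⟩ := n.2
            exact Subtype.ext (Prod.ext hmn (by
              rw [hsub _ ⟨x, hL hx, hxm⟩, hsub _ ⟨y, hL hy, hyn⟩]))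
      _ = 4 := by rw [Nat.card_eq_fintype_card]; rfl
  have h1 := fr.relIndex_le H
  have h2 := hcard _ (inf_le_right : H ⊓ centV hA ≤ centV hA)
  have h3 : (centralizer (A : Set P)).relIndex H ≤ k := by omega
  have hcomm := hab h3
  obtain ⟨g, hgH, hg⟩ : ∃ g ∈ H, g ∉ centV hA := by
    by_contra hc
    push Not at hc
    have := fr.relIndex_eq_card_image (L := H) hc
    have := hcard H hc
    omega
  -- all first columns are fixed by the transvection
  have hfix : ∀ m ∈ fr.image (H ⊓ centV hA), shear m.1 = m.1 := by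
    rintro _ ⟨x, hx, rfl⟩
    rw [← fr.mu_conj_fst hg hx.2, fr.mu_conj_eq_of_comm hx.2 (hcomm g hgH x hx.1)]
  have h5 : Nat.card (fr.image (H ⊓ centV hA)) ≤ 2 := by
    calc Nat.card (fr.image (H ⊓ centV hA)) ≤ Nat.card {v : Plane // shear v = v} :=
          Nat.card_le_card_of_injective
            (fun m : fr.image (H ⊓ centV hA) => (⟨(m : End4).1, hfix _ m.2⟩ :
              {v : Plane // shear v = v})) fun m n hmn => by
            obtain ⟨x, hx, hxm⟩ := m.2
            obtain ⟨y, hy, hyn⟩ := n.2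
            exact Subtype.ext (Prod.ext (congrArg Subtype.val hmn) (by
              rw [hsub _ ⟨x, hx.2, hxm⟩, hsub _ ⟨y, hy.2, hyn⟩]))
      _ = 2 := by rw [Nat.card_eq_fintype_card]; decide
  omega

include fr in
theorem relIndex_le_sixteen {H N : Subgroup P} (h2 : fr.a₂ ^ 2 = fr.e (0, 1))
    (h : Cfsg.Agent.Lib.SectRank.IsElemSection 2 N H) : N.relIndex H ≤ 16 := by
  obtain ⟨k, hk, hkD, ⟨c, hkc⟩, hab⟩ := outer_split hA h
  obtain ⟨hd, hsq⟩ := inner_bound hA H N h.pow
  rw [fr.card_invA] at hd hsq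
  by_contra hgt
  rw [hk] at hgt
  have hk4 : 4 < k := by
    by_contra hk4
    exact hgt ((Nat.mul_le_mul (by omega : k ≤ 4) hd).trans (by norm_num))
  have hk8 := four_le_of_two_lt hkc hk4
  have hDle : k ≤ (centralizer (A : Set P)).relIndex H :=
    Nat.le_of_dvd (Nat.pos_of_ne_zero index_ne_zero_of_finite) hkD
  set W := fr.imageAdd with hW
  have hWne : W ≠ ⊤ := fun htop => fr.not_all_end4 h2 fun m =>
    show m ∈ fr.imageAdd by rw [← hW, htop]; trivial
  have hWmul := W.card_mul_index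
  rw [card_end4] at hWmul
  have hWidx : W.index ≠ 1 := fun hh => hWne (AddSubgroup.index_eq_one.1 hh)
  have hW8 : Nat.card W ≤ 8 := by
    have : 2 ≤ W.index := by
      have : W.index ≠ 0 := fun hh => by rw [hh, mul_zero] at hWmul; omega
      omega
    nlinarith
  have hsubW : ∀ L ≤ centV hA, Nat.card (fr.image L) ≤ Nat.card W := fun L hL =>
    Nat.card_mono (Set.toFinite _) fun m ⟨x, hx, hxm⟩ => ⟨x, hL hx, hxm⟩
  set W' := fr.image (H ⊓ centV hA) with hW'
  have h1 : (centralizer (A : Set P)).relIndex H ≤ 2 * Nat.card W' := fr.relIndex_le H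
  have hW'8 : Nat.card W' ≤ 8 := (hsubW _ inf_le_right).trans hW8
  -- either `H` lies in `C_G(V)` or it moves `V`
  have hcases : (H ≤ centV hA ∧ 8 ≤ Nat.card W') ∨ ∃ g ∈ H, g ∉ centV hA := by
    by_cases hc : H ≤ centV hA
    · refine Or.inl ⟨hc, ?_⟩
      rw [hW', ← fr.relIndex_eq_card_image inf_le_right, inf_eq_left.2 hc]
      omega
    · exact Or.inr (SetLike.not_le_iff_exists.1 hc)
  have hfix : (centralizer (A : Set P)).relIndex H ≤ k → ∀ g ∈ H, g ∉ centV hA →
      ∀ m ∈ W', conjShear m = m := by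
    rintro hle g hgH hg _ ⟨x, hx, rfl⟩
    rw [← fr.mu_conj_of_notMem h2 hg hx.2, fr.mu_conj_eq_of_comm hx.2 (hab hle g hgH x hx.1)]
  -- `|H : (H ∩ C) N| = 8`
  have hk16 : k < 16 := by
    by_contra h16
    rcases hcases with ⟨hc, -⟩ | ⟨g, hgH, hg⟩
    · have := fr.relIndex_eq_card_image (L := H) hc
      have := (hsubW H hc).trans hW8
      omega
    · have h4 := card_le_four_of_fixed (hfix (by omega) g hgH hg)
      omega
  have hk8' : k = 8 := pow_two_cases hkc hk8 hk16
  have hdcard : 4 ≤ N.relIndex (centralizer (A : Set P) ⊓ H) := by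
    subst hk8'
    by_contra hlt
    have hdvd : ∃ j, N.relIndex (centralizer (A : Set P) ⊓ H) = 2 ^ j := by
      haveI : Fact (Nat.Prime 2) := ⟨Nat.prime_two⟩
      exact (hA.pg.to_subgroup _).index _
    obtain ⟨j, hj⟩ := hdvd
    rcases Nat.lt_or_ge j 2 with hj2 | hj2
    · interval_cases j <;> simp [hj] at hgt
    · have := Nat.pow_le_pow_right (show 0 < 2 by norm_num) hj2
      omega
  -- a good fixed element of `W'`
  obtain ⟨m, hm, hgood, hmfix⟩ : ∃ m ∈ W', Good m ∧ FixedAll hA m := by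
    by_cases h8 : 8 ≤ Nat.card W'
    · have hW'W : W' = (W : Set End4) := by
        refine Set.eq_of_subset_of_ncard_le (fun m ⟨x, hx, hxm⟩ => ⟨x, hx.2, hxm⟩) ?_
          (Set.toFinite _)
        rw [← Nat.card_coe_set_eq, ← Nat.card_coe_set_eq]
        exact hW8.trans h8
      have hW8' : Nat.card W = 8 := le_antisymm hW8
        (h8.trans (hsubW _ inf_le_right))
      have hidx2 : W.index = 2 := by rw [hW8'] at hWmul; omega
      by_cases hex : ∃ g : P, g ∉ centV hA
      · obtain ⟨g, hg⟩ := hex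
        have hst : ∀ m ∈ W, conjShear m ∈ W := by
          rintro _ ⟨x, hx, rfl⟩
          refine ⟨g⁻¹ * x * g, ?_, fr.mu_conj_of_notMem h2 hg hx⟩
          simpa using (centV_normal hA).conj_mem x hx g⁻¹
        exact ⟨nilU, hW'W ▸ nilU_mem_of_index_two hidx2 hst, good_nilU, fun _ => conjShear_nilU⟩
      · obtain ⟨m, hm, hgood⟩ := exists_good_of_index_two hidx2
        exact ⟨m, hW'W ▸ hm, hgood, fun hh => absurd hh hex⟩
    · obtain ⟨g, hgH, hg⟩ := hcases.resolve_left fun hh => h8 hh.2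
      have hle : (centralizer (A : Set P)).relIndex H ≤ k := by
        obtain ⟨c', hc'⟩ : ∃ j, (centralizer (A : Set P)).relIndex H = 2 ^ j := by
          haveI : Fact (Nat.Prime 2) := ⟨Nat.prime_two⟩
          exact (hA.pg.to_subgroup _).index _
        have := pow_two_cases (c := c') (n := (centralizer (A : Set P)).relIndex H)
          (hc' ▸ dvd_rfl) (by omega) (by omega)
        omega
      exact ⟨nilU, nilU_mem_of_fixed (by omega) (hfix hle g hgH hg), good_nilU,
        fun _ => conjShear_nilU⟩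
  -- lift it to an element squaring into `V`
  obtain ⟨x, hx, rfl⟩ := hm
  have hxN : x ∈ centV hA := hx.2
  have hxC : x ^ 2 ∈ centralizer (A : Set P) := fr.mu_sq hxN
  obtain ⟨d, hd', hxd⟩ := hsq hdcard (x ^ 2) (h.pow x hx.1) ⟨hxC, pow_mem hx.1 2⟩
  have hdC : d ∈ centralizer (A : Set P) := hd'.1
  haveI := hA.normal
  have hdC' : x⁻¹ * d * x ∈ centralizer (A : Set P) := by
    simpa using (Subgroup.normal_centralizer (H := A)).conj_mem d hdC x⁻¹
  have hsqeq : d ^ 2 = (x⁻¹ * d * x) ^ 2 := by rw [conj_sq, ← hxd]; group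
  have ht := sq_inv_mul_eq_one (hA.pg.to_subgroup _) (cenFour_cent hA)
    (x := ⟨d, hdC⟩) (y := ⟨_, hdC'⟩) (Subtype.ext (by simpa using hsqeq))
  have ht' : (d⁻¹ * (x⁻¹ * d * x)) ^ 2 = 1 := by simpa using congrArg Subtype.val ht
  have htV := mem_invA_of_cent hA (mul_mem (inv_mem hdC) hdC') ht'
  have hcomm : Commute (d⁻¹ * (x⁻¹ * d * x)) d :=
    ((mem_centralizer_iff.1 hdC _ htV.1) : _)
  have hy : (x * d⁻¹) ^ 2 ∈ invA hA := by
    have : (x * d⁻¹) ^ 2 = (d⁻¹ * (x⁻¹ * d * x))⁻¹ := by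
      calc (x * d⁻¹) ^ 2 = x ^ 2 * ((d⁻¹ * (x⁻¹ * d * x))⁻¹ * d⁻¹) * d⁻¹ := by
            rw [pow_two, pow_two]; group
        _ = d ^ 2 * (d⁻¹ * (d⁻¹ * (x⁻¹ * d * x))⁻¹) * d⁻¹ := by
            rw [hxd, hcomm.inv_inv.eq]
        _ = d * (d⁻¹ * (x⁻¹ * d * x))⁻¹ * d⁻¹ := by rw [pow_two]; group
        _ = (d⁻¹ * (x⁻¹ * d * x))⁻¹ * d * d⁻¹ := by rw [hcomm.inv_left.symm.eq]
        _ = _ := by group
    rw [this]
    exact inv_mem htV
  have hdN := cent_le_centV hA hdC
  have hmu : fr.mu (x * d⁻¹) = fr.mu x := by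
    rw [fr.mu_mul hxN (inv_mem hdN), fr.mu_inv hdN, (fr.mu_eq_zero_iff hdN).2 hdC, add_zero]
  exact fr.false_of_fixed_good h2 (mul_mem hxN (inv_mem hdN)) (hmu ▸ hgood) (hmu ▸ hmfix) hy

end Frame

/-- A frame exists when `V` is a four group and `A` is not elementary. -/
theorem exists_frame (hA : Setting A) (h4 : Nat.card (invA hA) = 4) (hne : ∃ a ∈ A, a ^ 2 ≠ 1) :
    ∃ fr : Frame hA, fr.a₂ = 1 ∨ fr.a₂ ^ 2 = fr.e (0, 1) := by
  haveI : Fact (Nat.Prime 2) := ⟨Nat.prime_two⟩
  let R : Subgroup P :=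
    { carrier := {x | ∃ a ∈ A, a ^ 2 = x}
      one_mem' := ⟨1, one_mem A, one_pow 2⟩
      mul_mem' := by
        rintro _ _ ⟨a, ha, rfl⟩ ⟨b, hb, rfl⟩
        exact ⟨a * b, mul_mem ha hb, (show Commute a b from hA.comm a ha b hb).mul_pow 2⟩
      inv_mem' := by
        rintro _ ⟨a, ha, rfl⟩
        exact ⟨a⁻¹, inv_mem ha, inv_pow a 2⟩ }
  haveI : R.Normal := ⟨by
    rintro _ ⟨a, ha, rfl⟩ g
    exact ⟨g * a * g⁻¹, hA.normal.conj_mem a ha g, by rw [pow_two, pow_two]; group⟩⟩
  have hRne : R ≠ ⊥ := by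
    obtain ⟨a, ha, ha2⟩ := hne
    intro hR
    exact ha2 (mem_bot.1 (hR ▸ (⟨a, ha, rfl⟩ : a ^ 2 ∈ R)))
  obtain ⟨z, ⟨⟨a₁, ha₁, ha₁z⟩, hzc⟩, hz1⟩ :=
    Cfsg.Agent.Lib.Puig.exists_mem_center_of_normal hA.pg R hRne
  have hzV : z ∈ invA hA := ha₁z ▸ sq_mem_invA hA ha₁
  -- the second generator
  obtain ⟨w, hwV, hw1, hwz, hwR⟩ : ∃ w ∈ invA hA, w ≠ 1 ∧ w ≠ z ∧
      (w ∈ R ∨ ∀ x ∈ R, x = 1 ∨ x = z) := by
    by_cases hall : ∀ x ∈ R, x = 1 ∨ x = z
    · by_contra hc
      push Not at hc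
      have hsub : ((invA hA : Subgroup P) : Set P) ⊆ {1, z} := by
        intro x hx
        by_contra hx'
        simp only [Set.mem_insert_iff, Set.mem_singleton_iff, not_or] at hx'
        obtain ⟨-, y, hy, hy1, hy2⟩ := hc x hx hx'.1 hx'.2
        rcases hall y hy with h | h
        exacts [hy1 h, hy2 h]
      have := Set.ncard_le_ncard hsub (Set.toFinite _)
      rw [← Nat.card_coe_set_eq] at this
      have h2 : ({1, z} : Set P).ncard ≤ 2 := (Set.ncard_insert_le _ _).trans (by simp)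
      have h3 : Nat.card ((invA hA : Subgroup P) : Set P) = 4 := h4
      omega
    · push Not at hall
      obtain ⟨x, ⟨a, ha, hax⟩, hx1, hxz⟩ := hall
      exact ⟨x, hax ▸ sq_mem_invA hA ha, hx1, hxz, Or.inl ⟨a, ha, hax⟩⟩
  let e : Plane → P := fun v => z ^ v.1.val * w ^ v.2.val
  have hz2 := hzV.2
  have hw2 := hwV.2
  have hzw : Commute z w := hA.comm z hzV.1 w hwV.1
  have hadd : ∀ a b : ZMod 2, ∀ t : P, t ^ 2 = 1 → t ^ (a + b).val = t ^ a.val * t ^ b.val := by
    intro a b t ht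
    rw [← pow_add, ZMod.val_add, ← pow_eq_pow_mod _ ht]
  have he10 : e (1, 0) = z := by simp [e, show (1 : ZMod 2).val = 1 from rfl]
  have he01 : e (0, 1) = w := by simp [e, show (1 : ZMod 2).val = 1 from rfl]
  have hmem : ∀ v, e v ∈ invA hA := fun v => mul_mem (pow_mem hzV _) (pow_mem hwV _)
  have headd : ∀ v v', e (v + v') = e v * e v' := by
    intro v v'
    show z ^ (v.1 + v'.1).val * w ^ (v.2 + v'.2).val = _
    rw [hadd _ _ z hz2, hadd _ _ w hw2]
    exact (hzw.pow_pow v'.1.val v.2.val).mul_mul_mul_comm _ _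
  have he0 : e 0 = 1 := by simp [e]
  have hker : ∀ v, e v = 1 → v = 0 := by
    intro v hv
    rcases plane_cases v with rfl | rfl | rfl | rfl
    · rfl
    · exact absurd (he10 ▸ hv) hz1
    · exact absurd (he01 ▸ hv) hw1
    · rw [headd, he10, he01] at hv
      exact absurd ((eq_inv_of_mul_eq_one_right hv).trans
        (inv_eq_of_mul_eq_one_left (by rw [← pow_two]; exact hz2))) hwz
  have hinj : Function.Injective e := by
    intro v v' h
    have h0 : e (v + v') = 1 := by
      rw [headd, h, ← pow_two]; exact (hmem v').2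
    exact plane_eq_of_add_eq_zero v v' (hker _ h0)
  have hsurj : ∀ x ∈ invA hA, ∃ v, e v = x := by
    intro x hx
    obtain ⟨v, hv⟩ := ((Nat.bijective_iff_injective_and_card
      (fun v => (⟨e v, hmem v⟩ : invA hA))).2
      ⟨fun v v' h => hinj (congrArg Subtype.val h), by rw [h4, Nat.card_eq_fintype_card]; rfl⟩).2
      ⟨x, hx⟩
    exact ⟨v, congrArg Subtype.val hv⟩
  have hcentral : ∀ g : P, g⁻¹ * e (1, 0) * g = e (1, 0) := fun g => by
    rw [he10, mul_assoc, ← mem_center_iff.1 hzc g]; group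
  -- generation: every square of `A` is a square of an element of `⟨a₁, a₂⟩`
  have hgen : ∀ a₂ ∈ A, (∀ x ∈ R, ∃ b ∈ closure ({a₁, a₂} : Set P), b ^ 2 = x) →
      A ≤ closure (({a₁, a₂} : Set P) ∪ ((invA hA : Subgroup P) : Set P)) := by
    intro a₂ ha₂ hR a ha
    obtain ⟨b, hb, hb2⟩ := hR _ ⟨a, ha, rfl⟩
    have hbA : b ∈ A := (closure_le _).2 (by rintro x (rfl | rfl) <;> assumption) hb
    have hv : b⁻¹ * a ∈ invA hA := ⟨mul_mem (inv_mem hbA) ha, by
      rw [(show Commute b⁻¹ a from hA.comm _ (inv_mem hbA) _ ha).mul_pow, inv_pow, hb2,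
        inv_mul_cancel]⟩
    have h3 : b⁻¹ * a ∈ ({a₁, a₂} : Set P) ∪ ((invA hA : Subgroup P) : Set P) := Or.inr hv
    have := mul_mem (Subgroup.closure_mono Set.subset_union_left hb) (Subgroup.subset_closure h3)
    rwa [mul_inv_cancel_left] at this
  rcases hwR with ⟨a₂, ha₂, ha₂w⟩ | hall
  · refine ⟨⟨e, hmem, hsurj, hinj, headd, hcentral, a₁, a₂, ha₁, ha₂, by rw [ha₁z, he10],
      hgen a₂ ha₂ fun x ⟨a, ha, hax⟩ => ?_⟩, Or.inr (show a₂ ^ 2 = e (0, 1) by rw [ha₂w, he01])⟩
    obtain ⟨v, hv⟩ := hsurj x (hax ▸ sq_mem_invA hA ha)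
    refine ⟨a₁ ^ v.1.val * a₂ ^ v.2.val, mul_mem (pow_mem (subset_closure (by simp)) _)
      (pow_mem (subset_closure (by simp)) _), ?_⟩
    rw [(show Commute a₁ a₂ from hA.comm _ ha₁ _ ha₂).pow_pow _ _ |>.mul_pow, ← hv,
      ← pow_mul, mul_comm v.1.val, pow_mul, ← pow_mul a₂, mul_comm v.2.val, pow_mul, ha₁z, ha₂w]
  · refine ⟨⟨e, hmem, hsurj, hinj, headd, hcentral, a₁, 1, ha₁, one_mem A, by rw [ha₁z, he10],
      hgen 1 (one_mem A) fun x hx => ?_⟩, Or.inl rfl⟩
    rcases hall x hx with rfl | rfl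
    · exact ⟨1, one_mem _, one_pow 2⟩
    · exact ⟨a₁, subset_closure (by simp), ha₁z⟩

/-- The index of `C` when `A` is elementary or `V` is cyclic. -/
theorem index_cent_le_of_small (hA : Setting A)
    (h : Nat.card (invA hA) ≤ 2 ∨ ∀ a ∈ A, a ^ 2 = 1) :
    (centralizer (A : Set P)).index ≤ 4 := by
  by_cases hel : ∀ a ∈ A, a ^ 2 = 1
  · have heq : centralizer (A : Set P) = centV hA :=
      le_antisymm (cent_le_centV hA) (centralizer_le fun a ha => ⟨ha, hel a ha⟩)
    rw [heq]; exact (index_centV_le hA).trans (by omega)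
  have h2 := h.resolve_right hel
  push Not at hel
  obtain ⟨a₁, ha₁, ha₁2⟩ := hel
  have hz := sq_mem_invA hA ha₁
  have hV : ∀ x ∈ invA hA, x = 1 ∨ x = a₁ ^ 2 := by
    intro x hx
    by_contra hc
    push Not at hc
    have hsub : ({1, a₁ ^ 2, x} : Set P) ⊆ ((invA hA : Subgroup P) : Set P) := by
      rintro y (rfl | rfl | rfl)
      exacts [one_mem _, hz, hx]
    have h3 : ({1, a₁ ^ 2, x} : Set P).ncard = 3 :=
      Set.ncard_eq_three.2 ⟨1, a₁ ^ 2, x, Ne.symm ha₁2, Ne.symm hc.1, Ne.symm hc.2, rfl⟩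
    have h4 := Set.ncard_le_ncard hsub (Set.toFinite _)
    rw [h3, ← Nat.card_coe_set_eq] at h4
    exact absurd (h4.trans h2) (by omega)
  have hzc : ∀ g : P, g⁻¹ * a₁ ^ 2 * g = a₁ ^ 2 := by
    intro g
    have hmem : g⁻¹ * a₁ ^ 2 * g ∈ invA hA := by
      simpa using (invA_normal hA).conj_mem _ hz g⁻¹
    refine (hV _ hmem).resolve_left fun h1 => ha₁2 ?_
    calc a₁ ^ 2 = g * (g⁻¹ * a₁ ^ 2 * g) * g⁻¹ := by group
      _ = 1 := by rw [h1]; group
  have htop : ∀ g, g ∈ centV hA := fun g => (mem_centV hA).2 fun v hv => by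
    rcases hV v hv with rfl | rfl
    · group
    · exact hzc g
  have hgen : A ≤ closure (({a₁} : Set P) ∪ ((invA hA : Subgroup P) : Set P)) := by
    intro a ha
    rcases hV _ (sq_mem_invA hA ha) with h1 | h1
    · exact subset_closure (Or.inr (show a ∈ invA hA from ⟨ha, h1⟩))
    · have hv : a₁⁻¹ * a ∈ invA hA := ⟨mul_mem (inv_mem ha₁) ha, by
        rw [(show Commute a₁⁻¹ a from hA.comm _ (inv_mem ha₁) _ ha).mul_pow, inv_pow, h1,
          inv_mul_cancel]⟩
      have h2 : a₁ ∈ ({a₁} : Set P) ∪ ((invA hA : Subgroup P) : Set P) := Or.inl rfl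
      have h3 : a₁⁻¹ * a ∈ ({a₁} : Set P) ∪ ((invA hA : Subgroup P) : Set P) := Or.inr hv
      have := mul_mem (Subgroup.subset_closure h2) (Subgroup.subset_closure h3)
      rwa [mul_inv_cancel_left] at this
  let f : P →* P := MonoidHom.mk' (fun g => disp g a₁) fun g k =>
    disp_mul_left hA (htop g) (htop k) ha₁
  have hker : f.ker = centralizer (A : Set P) := by
    ext g
    rw [MonoidHom.mem_ker, mem_cent_iff hA (S := {a₁}) (Set.singleton_subset_iff.2 ha₁) hgen]
    simp only [htop g, true_and, Set.mem_singleton_iff, forall_eq]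
    rfl
  rw [← hker, index_ker]
  calc Nat.card f.range ≤ Nat.card (invA hA) :=
        card_le_of_le (by rintro _ ⟨g, rfl⟩; exact disp_mem hA (htop g) ha₁)
    _ ≤ 4 := invA_card_le hA

/-- **MacWilliams' four generator theorem.** -/
theorem sectionalRank_le_four {P : Type u} [Group P] [Finite P] (hP : IsPGroup 2 P)
    (h : ∀ A : Subgroup P, A.Normal → IsMulCommutative A → (∀ a ∈ A, a ^ 2 = 1) → Nat.card A ≤ 4) :
    Cfsg.SectionalPRankLE 2 4 P := by
  obtain ⟨A, hA⟩ := exists_setting hP h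
  refine Cfsg.Agent.Lib.SectRank.sectionalPRankLE_of_forall fun N H hs => ?_
  rw [show (2 : ℕ) ^ 4 = 16 by rfl]
  by_cases hsmall : Nat.card (invA hA) ≤ 2 ∨ ∀ a ∈ A, a ^ 2 = 1
  · obtain ⟨k, hk, hkD, -, -⟩ := outer_split hA hs
    obtain ⟨hd, -⟩ := inner_bound hA H N hs.pow
    haveI := hA.normal
    have h1 : k ≤ 4 :=
      ((Nat.le_of_dvd (Nat.pos_of_ne_zero index_ne_zero_of_finite)
        (hkD.trans (relIndex_dvd_index_of_normal _ _))).trans (index_cent_le_of_small hA hsmall))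
    rw [hk]
    exact (Nat.mul_le_mul h1 (hd.trans (invA_card_le hA))).trans (by norm_num)
  push Not at hsmall
  have h4 : Nat.card (invA hA) = 4 := by
    haveI : Fact (Nat.Prime 2) := ⟨Nat.prime_two⟩
    obtain ⟨j, hj⟩ := IsPGroup.iff_card.1 (hP.to_subgroup (invA hA))
    have h1 := invA_card_le hA
    have h2 := hsmall.1
    rw [hj] at h1 h2 ⊢
    have : j = 2 := by
      rcases lt_trichotomy j 2 with hj2 | hj2 | hj2
      · have := Nat.pow_le_pow_right (show 0 < 2 by norm_num) (show j ≤ 1 by omega)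
        omega
      · exact hj2
      · have := Nat.pow_le_pow_right (show 0 < 2 by norm_num) (show 3 ≤ j by omega)
        omega
    rw [this]; rfl
  obtain ⟨fr, hfr | hfr⟩ := exists_frame hA h4 hsmall.2
  · exact fr.relIndex_le_four hfr hs
  · exact fr.relIndex_le_sixteen hfr hs

end Cfsg.Agent.Lib.FourGenerator
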